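import Cfsg.Agent.Lib.OddOrder.PF9.Chief

/-!
# Peterfalvi (9.7), the non-Galois case: `H/H₀` is a direct product of `W₁`-conjugate lines
-/

set_option autoImplicit false
set_option linter.unusedSectionVars false
set_option linter.style.haveILetI false

namespace Cfsg.Agent.Lib.OddOrder.PF9

open Subgroup Cfsg.Agent.Lib.Coprime
open scoped commutatorElement Pointwise

universe u

variable {L : Type u} [Group L] [Finite L] {K H U W₁ W₂ H₀ C : Subgroup L} {p : ℕ}

/-- Over `H₀`, the index of a product is the product of the indices. -/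
theorem relIndex_sup_of_inf (hcomm : ∀ x ∈ H, ∀ y ∈ H, ⁅x, y⁆ ∈ H₀) {A B : Subgroup L}
    (hA₀ : H₀ ≤ A) (hA : A ≤ H) (hB : B ≤ H) (hAB : A ⊓ B = H₀) :
    H₀.relIndex (A ⊔ B) = H₀.relIndex A * H₀.relIndex B := by
  haveI : (A.subgroupOf H).Normal :=
    normal_subgroupOf_of_le_normalizer (le_normalizer_of_commutator_mem hA₀
      fun x hx y hy => hcomm x hx y (hA hy))
  have h1 := relIndex_sup_left (K := A.subgroupOf H) (H := B.subgroupOf H)
  rw [← subgroupOf_sup hA hB, relIndex_subgroupOf (sup_le hA hB), relIndex_subgroupOf hB] at h1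
  have h2 : A.relIndex B = H₀.relIndex B := by
    rw [← inf_relIndex_right A B, hAB]
  rw [← relIndex_mul_relIndex H₀ A (A ⊔ B) hA₀ le_sup_left, h1, h2]

/-- The translate of a subgroup under conjugation. -/
abbrev cmap (N : Subgroup L) (w : L) : Subgroup L := N.map (MulAut.conj w).toMonoidHom

theorem mem_cmap {N : Subgroup L} {w x : L} : x ∈ cmap N w ↔ w⁻¹ * x * w ∈ N := by
  constructor
  · rintro ⟨y, hy, rfl⟩
    simpa [mul_assoc] using hy
  · exact fun hx => ⟨_, hx, by simp [mul_assoc]⟩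

theorem U_le_normalizer_cmap {N : Subgroup L}
    (hN : U ≤ normalizer (N : Set L)) {w : L} (hw : w ∈ normalizer (U : Set L)) :
    U ≤ normalizer (cmap N w : Set L) := by
  refine le_normalizer_iff.mpr fun a ha x hx => ?_
  rw [mem_cmap] at hx ⊢
  have := (mem_normalizer_iff.1 (hN ((mem_normalizer_iff''.1 hw a).1 ha)) _).1 hx
  simpa [mul_assoc] using this

/-- Minimality passes to translates. -/
theorem minimal_cmap (h : Hyp K H U W₁ W₂) (hn : H₀.Normal) {X : Subgroup L}
    (hmin : ∀ N : Subgroup L, H₀ ≤ N → N ≤ X → U ≤ normalizer (N : Set L) → N = H₀ ∨ N = X)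
    {w : L} (hw : w ∈ W₁) {N : Subgroup L} (h0 : H₀ ≤ N) (hN : N ≤ cmap X w)
    (hU : U ≤ normalizer (N : Set L)) : N = H₀ ∨ N = cmap X w := by
  have hw' : w⁻¹ ∈ normalizer (U : Set L) := h.W₁_normalizes (W₁.inv_mem hw)
  have hback : N = cmap (cmap N w⁻¹) w := by
    ext x
    rw [mem_cmap, mem_cmap]
    simp [mul_assoc]
  rcases hmin (cmap N w⁻¹) (fun x hx => mem_cmap.2 (h0 (by simpa using hn.conj_mem x hx w)))
      (fun x hx => by
        rw [mem_cmap] at hx
        have := mem_cmap.1 (hN hx)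
        simpa [mul_assoc] using this)
      (U_le_normalizer_cmap hU hw') with e | e
  · left
    rw [hback, e]
    ext x
    rw [mem_cmap]
    exact ⟨fun hx => by simpa [mul_assoc] using hn.conj_mem _ hx w, fun hx => hn.conj_mem' x hx w⟩
  · right; rw [hback, e]

/-- The span of the translates of a minimal invariant subgroup. -/
theorem span_relIndex (h : Hyp K H U W₁ W₂) (hk : IsChiefKernel H U H₀) {X : Subgroup L}
    (hX₀lt : H₀ < X) (hX : X ≤ H) (hXU : U ≤ normalizer (X : Set L))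
    (hmin : ∀ N : Subgroup L, H₀ ≤ N → N ≤ X → U ≤ normalizer (N : Set L) → N = H₀ ∨ N = X) :
    (⨆ w : W₁, cmap X (w : L)) = H ∧ ∃ k : ℕ, H₀.relIndex H = H₀.relIndex X ^ k := by
  classical
  haveI := hk.normal
  haveI := h.H_normal
  have hcm := hk.comm_mem h
  have hX₀ := hX₀lt.le
  have hX' : ∀ w : W₁, cmap X (w : L) ≤ H := fun w x hx => by
    rw [mem_cmap] at hx
    simpa [mul_assoc] using h.H_normal.conj_mem _ (hX hx) (w : L)
  have hX₀' : ∀ w : W₁, H₀ ≤ cmap X (w : L) := fun w x hx =>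
    mem_cmap.2 (hX₀ (hk.normal.conj_mem' x hx _))
  have hrel : ∀ w : W₁, H₀.relIndex (cmap X (w : L)) = H₀.relIndex X := fun w => by
    have h1 : cmap H₀ (w : L) = H₀ := by
      ext x
      rw [mem_cmap]
      exact ⟨fun hx => by simpa [mul_assoc] using hk.normal.conj_mem _ hx (w : L),
        fun hx => hk.normal.conj_mem' x hx _⟩
    conv_lhs => rw [← h1]
    exact relIndex_map_map_of_injective H₀ X (MulEquiv.injective _)
  have hUw : ∀ w : W₁, U ≤ normalizer (cmap X (w : L) : Set L) :=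
    fun w => U_le_normalizer_cmap hXU (h.W₁_normalizes w.2)
  have key : ∀ s : Finset W₁, ∃ T : Subgroup L, H₀ ≤ T ∧ T ≤ H ∧ U ≤ normalizer (T : Set L) ∧
      T = H₀ ⊔ s.sup (fun w => cmap X (w : L)) ∧ ∃ k : ℕ, H₀.relIndex T = H₀.relIndex X ^ k := by
    intro s
    induction s using Finset.induction_on with
    | empty =>
      exact ⟨H₀, le_rfl, hk.lt.le, by rw [normalizer_eq_top]; exact le_top, by simp, 0, by simp⟩
    | insert w s _ ih =>
      obtain ⟨T, hT₀, hTH, hTU, hTdef, k, hk'⟩ := ih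
      refine ⟨T ⊔ cmap X (w : L), hT₀.trans le_sup_left, sup_le hTH (hX' w),
        le_normalizer_sup hTU (hUw w), ?_, ?_⟩
      · rw [hTdef, Finset.sup_insert, sup_assoc, sup_comm (s.sup _)]
      · rcases minimal_cmap h hk.normal hmin w.2 (le_inf hT₀ (hX₀' w)) inf_le_right
          (le_normalizer_inf hTU (hUw w)) with e | e
        · exact ⟨k + 1, by rw [relIndex_sup_of_inf hcm hT₀ hTH (hX' w) e, hk', hrel, pow_succ]⟩
        · exact ⟨k, by rw [sup_eq_left.2 (inf_eq_right.1 e), hk']⟩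
  letI := Fintype.ofFinite W₁
  obtain ⟨T, hT₀, hTH, hTU, hTdef, k, hk'⟩ := key Finset.univ
  have hTsup : T = ⨆ w : W₁, cmap X (w : L) := by
    rw [hTdef, Finset.sup_univ_eq_iSup, sup_eq_right]
    exact (hX₀' 1).trans (le_iSup (fun w : W₁ => cmap X (w : L)) 1)
  have hTW : W₁ ≤ normalizer (T : Set L) := by
    refine le_normalizer_iff.mpr fun v hv x hx => ?_
    have : T.map (MulAut.conj v).toMonoidHom ≤ T := by
      rw [hTsup, Subgroup.map_iSup]
      refine iSup_le fun w => le_trans ?_ (le_iSup _ (⟨v, hv⟩ * w : W₁))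
      rintro _ ⟨y, hy, rfl⟩
      rw [SetLike.mem_coe, mem_cmap] at hy
      rw [mem_cmap]
      simpa [mul_assoc] using hy
    exact this ⟨x, hx, rfl⟩
  have hTn : T.Normal := h.normal_of_normalized
    (le_normalizer_of_commutator_mem hT₀ fun x hx y hy => hcm x hx y (hTH hy)) hTU hTW
  rcases hk.maximal T hTn hT₀ hTH with e | e
  · have hXT : X ≤ T := by
      rw [hTsup]
      refine le_trans ?_ (le_iSup _ (1 : W₁))
      intro x hx
      rw [mem_cmap]
      simpa using hx
    exact absurd (e ▸ hXT) hX₀lt.not_ge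
  · exact ⟨hTsup ▸ e, k, by rw [← e]; exact hk'⟩

theorem forall_comm_iff {U₀ : Subgroup L} [H₀.Normal] (a : L) :
    (∀ x ∈ U₀, ⁅a, x⁆ ∈ H₀) ↔
      QuotientGroup.mk' H₀ a ∈ centralizer (U₀.map (QuotientGroup.mk' H₀) : Set (L ⧸ H₀)) := by
  rw [mem_centralizer_iff]
  constructor
  · rintro hc _ ⟨x, hx, rfl⟩
    have := hc x hx
    rw [← QuotientGroup.eq_one_iff, ← QuotientGroup.mk'_apply, map_commutatorElement,
      commutatorElement_eq_one_iff_mul_comm] at this
    exact this.symm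
  · intro hc x hx
    rw [← QuotientGroup.eq_one_iff, ← QuotientGroup.mk'_apply, map_commutatorElement,
      commutatorElement_eq_one_iff_mul_comm]
    exact (hc _ (mem_map_of_mem _ hx)).symm

theorem forall_comm_span {U₀ : Subgroup L} [H₀.Normal] {ι : Type*} {Y : ι → Subgroup L}
    (hY : ∀ i, ∀ x ∈ Y i, ∀ a ∈ U₀, ⁅a, x⁆ ∈ H₀) :
    ∀ x ∈ ⨆ i, Y i, ∀ a ∈ U₀, ⁅a, x⁆ ∈ H₀ := by
  intro x hx
  have : (⨆ i, Y i) ≤ (centralizer (U₀.map (QuotientGroup.mk' H₀) : Set (L ⧸ H₀))).comap
      (QuotientGroup.mk' H₀) := iSup_le fun i y hy => by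
    rw [mem_comap, ← forall_comm_iff]
    intro a ha
    rw [← commutatorElement_inv]
    exact inv_mem (hY i y hy a ha)
  intro a ha
  rw [← commutatorElement_inv]
  exact inv_mem ((forall_comm_iff x).2 (this hx) a ha)

/-- (9.7), the non-Galois case. -/
theorem step_9_7_line (h : Hyp K H U W₁ W₂) (hk : IsChiefKernel H U H₀)
    (h6 : Step_9_6 p H U W₁ W₂ H₀ C) (hC : IsFactorCentralizer H U H₀ C)
    (hG : ¬ IsGalois H U H₀) : ∃ H₁ K₁ : Subgroup L,
    H₀ < H₁ ∧ H₁ ≤ H ∧ U ≤ normalizer (H₁ : Set L) ∧ H₀.relIndex H₁ = p ∧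
    (⨆ w ∈ W₁, H₁.map (MulAut.conj w).toMonoidHom) = H ∧
    IsFactorCentralizer H₁ U H₀ K₁ ∧ 1 < K₁.relIndex U ∧ 2 * K₁.relIndex U ∣ p - 1 ∧
    C.relIndex U ∣ K₁.relIndex U ^ (Nat.card W₁ - 1) := by
  classical
  haveI := hk.normal
  haveI := h.H_normal
  haveI : Fact p.Prime := ⟨h6.prime⟩
  -- a minimal invariant subgroup
  unfold IsGalois at hG
  push Not at hG
  obtain ⟨N₀, hN₀, hN₀H, hN₀U, hN₀1, hN₀2⟩ := hG
  obtain ⟨X, hXN, hXmin⟩ := Finite.exists_le_minimal
    (p := fun N : Subgroup L => H₀ < N ∧ N ≤ N₀ ∧ U ≤ normalizer (N : Set L))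
    ⟨lt_of_le_of_ne hN₀ (Ne.symm hN₀1), le_rfl, hN₀U⟩
  obtain ⟨⟨hX₀, -, hXU⟩, hXmin⟩ := hXmin
  have hXH : X ≤ H := hXN.trans hN₀H
  have hXne : X ≠ H := fun e => hN₀2 (le_antisymm hN₀H (e ▸ hXN))
  have hmin : ∀ N : Subgroup L, H₀ ≤ N → N ≤ X → U ≤ normalizer (N : Set L) → N = H₀ ∨ N = X :=
    fun N h0 hN hU => (eq_or_lt_of_le h0).imp Eq.symm fun hlt =>
      le_antisymm hN (hXmin ⟨hlt, hN.trans hXN, hU⟩ hN)
  obtain ⟨hspan, k, hk'⟩ := span_relIndex h hk hX₀ hXH hXU hmin
  rw [h6.index_eq] at hk'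
  obtain ⟨j, -, hj⟩ := (Nat.dvd_prime_pow h6.prime).1
    (⟨H₀.relIndex X ^ (k - 1), by
      rw [← pow_succ', hk', Nat.sub_add_cancel]
      rcases Nat.eq_zero_or_pos k with rfl | hk0
      · rw [pow_zero] at hk'
        exact absurd hk' (Nat.one_lt_pow h.W₁_prime.ne_zero h6.prime.one_lt).ne'
      · exact hk0⟩ : H₀.relIndex X ∣ p ^ Nat.card W₁)
  rw [hj, ← pow_mul] at hk'
  have hjk : Nat.card W₁ = j * k := Nat.pow_right_injective h6.prime.two_le hk'
  have hj1 : j = 1 := by
    refine (h.W₁_prime.eq_one_or_self_of_dvd j ⟨k, hjk⟩).resolve_right fun e => hXne ?_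
    refine le_antisymm hXH ?_
    have h1 := relIndex_mul_relIndex H₀ X H hX₀.le hXH
    rw [hj, e, h6.index_eq] at h1
    exact relIndex_eq_one.1 (Nat.eq_of_mul_eq_mul_left (pow_pos h6.prime.pos _) (by rw [h1, mul_one]))
  rw [hj1, pow_one] at hj
  refine ⟨X, factorCent X U H₀, hX₀, hXH, hXU, hj, ?_, isFactorCentralizer_factorCent, ?_⟩
  · rw [← hspan, iSup_subtype]
  set K₁ := factorCent X U H₀ with hK₁def
  have hK₁ : ∀ x, x ∈ K₁ ↔ x ∈ U ∧ ∀ y ∈ X, ⁅x, y⁆ ∈ H₀ := isFactorCentralizer_factorCent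
  -- the character on the line
  set π := QuotientGroup.mk' H₀ with hπ
  set V := X.map π with hV
  have hπ1 : ∀ x : L, π x = 1 ↔ x ∈ H₀ := fun x => QuotientGroup.eq_one_iff x
  have hVU : ∀ a ∈ U, π a ∈ normalizer (V : Set (L ⧸ H₀)) := fun a ha => by
    have h1 := le_normalizer_map (H := X) π (mem_map_of_mem π (hXU ha))
    exact h1
  have hcardV : Nat.card V = p := by
    rw [← hj]
    refine (relIndex_ker (K := X) π).symm.trans ?_
    rw [hπ, QuotientGroup.ker_mk']
  haveI : IsCyclic V := isCyclic_of_prime_card hcardV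
  let φ : U →* MulAut V := V.normalizerMonoidHom.comp
    { toFun := fun a => ⟨π a, hVU a a.2⟩
      map_one' := Subtype.ext (map_one π)
      map_mul' := fun a b => Subtype.ext (map_mul π (a : L) (b : L)) }
  let ψ : U →* (ZMod (Nat.card V))ˣ := (IsCyclic.mulAutMulEquiv V).toMonoidHom.comp φ
  have hψker : ψ.ker = K₁.subgroupOf U := by
    ext a
    rw [MonoidHom.mem_ker, mem_subgroupOf, hK₁, MonoidHom.comp_apply, MulEquiv.coe_toMonoidHom,
      map_eq_one_iff _ (IsCyclic.mulAutMulEquiv V).injective, forall_comm_iff]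
    simp only [SetLike.coe_mem, true_and]
    rw [MonoidHom.comp_apply, ← MonoidHom.mem_ker, normalizerMonoidHom_ker, mem_subgroupOf]
    rfl
  have hrange : K₁.relIndex U = Nat.card ψ.range := by
    rw [← index_ker, hψker]; rfl
  have hdvd : K₁.relIndex U ∣ p - 1 := by
    rw [hrange]
    refine (card_subgroup_dvd_card _).trans ?_
    rw [hcardV, Nat.card_eq_fintype_card, ZMod.card_units]
  have hK₁U : K₁ ≤ U := inf_le_left
  have hone : 1 < K₁.relIndex U := by
    rcases Nat.lt_or_ge 1 (K₁.relIndex U) with hlt | hle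
    · exact hlt
    exfalso
    have hle' : U ≤ K₁ := by
      refine relIndex_eq_one.1 (le_antisymm hle ?_)
      exact Nat.one_le_iff_ne_zero.2 (index_ne_zero_of_finite (H := K₁.subgroupOf U))
    refine hk.moves fun a ha x hx => ?_
    rw [← hspan] at hx
    refine forall_comm_span (U₀ := U) (fun w y hy b hb => ?_) x hx a ha
    rw [mem_cmap] at hy
    have hb' : (w : L)⁻¹ * b * w ∈ U :=
      (mem_normalizer_iff''.1 (h.W₁_normalizes w.2) b).1 hb
    have := hk.normal.conj_mem _ (((hK₁ _).1 (hle' hb')).2 _ hy) (w : L)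
    have e : ⁅b, y⁆ = (w : L) * ⁅(w : L)⁻¹ * b * w, (w : L)⁻¹ * y * w⁆ * (w : L)⁻¹ := by
      simp only [commutatorElement_def]; group
    rwa [e]
  refine ⟨hone, ?_, ?_⟩
  · have h2 : 2 ∣ p - 1 := by
      have hp2 : Odd p := h.odd.of_dvd_nat (by
        rw [← hj]
        exact (index_dvd_card (H₀.subgroupOf X)).trans X.card_subgroup_dvd_card)
      obtain ⟨m, hm⟩ := hp2
      exact ⟨m, by omega⟩
    refine Nat.Coprime.mul_dvd_of_dvd_of_dvd ?_ h2 hdvd
    exact (Nat.coprime_two_left).2 (h.odd.of_dvd_nat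
      ((index_dvd_card (K₁.subgroupOf U)).trans U.card_subgroup_dvd_card))
  -- `U / C` embeds in the product of the translated characters
  letI := Fintype.ofFinite W₁
  have hconjU : ∀ (w : W₁) (a : U), (w : L)⁻¹ * a * w ∈ U := fun w a =>
    (mem_normalizer_iff''.1 (h.W₁_normalizes w.2) (a : L)).1 a.2
  let c : W₁ → (U →* U) := fun w =>
    { toFun := fun a => ⟨(w : L)⁻¹ * a * w, hconjU w a⟩
      map_one' := Subtype.ext (by simp)
      map_mul' := fun a b => Subtype.ext (by simp [mul_assoc]) }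
  have hker : ∀ a : U, (∀ w : W₁, ψ (c w a) = 1) → (a : L) ∈ C := by
    intro a ha
    refine (hC _).2 ⟨a.2, fun x hx => ?_⟩
    rw [← hspan] at hx
    refine forall_comm_span (U₀ := Subgroup.zpowers (a : L)) (fun w y hy b hb => ?_) x hx _
      (mem_zpowers _)
    rw [mem_cmap] at hy
    obtain ⟨n, rfl⟩ := mem_zpowers_iff.1 hb
    have h1 : c w (a ^ n) ∈ ψ.ker := by
      rw [MonoidHom.mem_ker, map_zpow, map_zpow, ha w, one_zpow]
    rw [hψker, mem_subgroupOf] at h1
    have := hk.normal.conj_mem _ (((hK₁ _).1 h1).2 _ hy) (w : L)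
    have e : ⁅(a : L) ^ n, y⁆ =
        (w : L) * ⁅(w : L)⁻¹ * (a : L) ^ n * w, (w : L)⁻¹ * y * w⁆ * (w : L)⁻¹ := by
      simp only [commutatorElement_def]; group
    rw [e]
    simpa [c] using this
  have hC₁ : ∀ a : U, (a : L) ∈ C → ∀ w : W₁, ψ (c w a) = 1 := by
    intro a ha w
    rw [← MonoidHom.mem_ker, hψker, mem_subgroupOf, hK₁]
    have hca : (w : L)⁻¹ * a * w ∈ C :=
      (mem_normalizer_iff''.1 (h6.C_normalized (mem_sup_right w.2)) (a : L)).1 ha
    exact ⟨hconjU w a, fun y hy => ((hC _).1 hca).2 y (hXH hy)⟩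
  -- the product of all translates is trivial
  let P : U →* (ZMod (Nat.card V))ˣ :=
    { toFun := fun a => ∏ w : W₁, ψ (c w a)
      map_one' := by simp
      map_mul' := fun a b => by simp [Finset.prod_mul_distrib] }
  have hP : ∀ a : U, P a = 1 := by
    obtain ⟨⟨v, hv⟩, hv1⟩ := Subgroup.ne_bot_iff_exists_ne_one.1 h.W₁_ne
    let v' : W₁ := ⟨v, hv⟩
    haveI : (C.subgroupOf U).Normal :=
      normal_subgroupOf_of_le_normalizer (le_sup_left.trans h6.C_normalized)
    set mk := QuotientGroup.mk' (C.subgroupOf U) with hmk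
    have hab : ∀ a b : U, mk a * mk b = mk b * mk a := fun a b => by
      rw [← commutatorElement_eq_one_iff_mul_comm, ← map_commutatorElement, hmk,
        QuotientGroup.mk'_apply, QuotientGroup.eq_one_iff, mem_subgroupOf]
      exact h6.derived_le (commutator_mem_commutator a.2 b.2)
    let f : U →* U ⧸ C.subgroupOf U :=
      { toFun := fun a => mk (c v' a) / mk a
        map_one' := by simp
        map_mul' := fun a b => by
          have hcq : ∀ x y : U ⧸ C.subgroupOf U, x * y = y * x := fun x y => by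
            obtain ⟨x, rfl⟩ := QuotientGroup.mk_surjective x
            obtain ⟨y, rfl⟩ := QuotientGroup.mk_surjective y
            exact hab x y
          letI : CommGroup (U ⧸ C.subgroupOf U) :=
            { (inferInstance : Group (U ⧸ C.subgroupOf U)) with mul_comm := hcq }
          rw [map_mul, map_mul, map_mul]
          exact mul_div_mul_comm _ _ _ _ }
    have hf : f.ker ≤ C.subgroupOf U := fun a ha => by
      rw [MonoidHom.mem_ker] at ha
      have h1 : mk (c v' a / a) = 1 := by rw [map_div]; exact ha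
      rw [hmk, QuotientGroup.mk'_apply, QuotientGroup.eq_one_iff, mem_subgroupOf] at h1
      rw [mem_subgroupOf]
      refine h6.fpf v⁻¹ (W₁.inv_mem hv) (fun e => hv1 (Subtype.ext (inv_eq_one.1 e))) a a.2 ?_
      simpa [c, v', commutatorElement_def, div_eq_mul_inv] using h1
    have hsurj : Function.Surjective f := by
      rw [← MonoidHom.range_eq_top]
      refine eq_top_of_le_card _ ?_
      rw [← index_ker]
      exact Nat.le_of_dvd (Nat.pos_of_ne_zero (index_ne_zero_of_finite (H := f.ker)))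
        (index_dvd_of_le hf)
    intro a
    obtain ⟨b, hb⟩ := hsurj (mk a)
    have h1 : mk (c v' b / b) = mk a := by rw [map_div]; exact hb
    have h2 : a⁻¹ * (c v' b / b) ∈ C.subgroupOf U := QuotientGroup.eq.1 h1.symm
    have h3 : P (a⁻¹ * (c v' b / b)) = 1 := Finset.prod_eq_one fun w _ => hC₁ _ (mem_subgroupOf.1 h2) w
    have h4 : P (c v' b) = P b := by
      show ∏ w : W₁, ψ (c w (c v' b)) = ∏ w : W₁, ψ (c w b)
      refine Fintype.prod_equiv (Equiv.mulLeft v') _ _ fun w => ?_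
      congr 1
      exact Subtype.ext (by simp [c, mul_assoc])
    rw [map_mul, map_inv, map_div, h4, div_self', mul_one, inv_eq_one] at h3
    exact h3
  let Ψ : U →* ({w : W₁ // w ≠ 1} → ψ.range) :=
    MonoidHom.pi fun w => ψ.rangeRestrict.comp (c w.1)
  have hΨker : Ψ.ker = C.subgroupOf U := by
    ext a
    rw [MonoidHom.mem_ker, mem_subgroupOf]
    constructor
    · intro ha
      refine hker a fun w => ?_
      have h1 : ∀ w : W₁, w ≠ 1 → ψ (c w a) = 1 := fun w hw => by
        have := congrArg Subtype.val (congrFun ha ⟨w, hw⟩)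
        simpa [Ψ] using this
      rcases eq_or_ne w 1 with rfl | hw
      · have := hP a
        change ∏ w : W₁, ψ (c w a) = 1 at this
        rwa [Fintype.prod_eq_single 1 h1] at this
      · exact h1 w hw
    · intro ha
      funext w
      exact Subtype.ext (hC₁ a ha w.1)
  have h5 : C.relIndex U = Nat.card Ψ.range := by rw [← index_ker, hΨker]; rfl
  rw [h5, hrange]
  refine (card_subgroup_dvd_card _).trans (dvd_of_eq ?_)
  rw [Nat.card_fun]
  congr 1
  rw [Nat.card_eq_fintype_card, Fintype.card_subtype_compl, Fintype.card_subtype_eq,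
    Nat.card_eq_fintype_card]

end Cfsg.Agent.Lib.OddOrder.PF9
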