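import Cfsg.Agent.Lib.OddOrder.PF9.Field
import Cfsg.Agent.Lib.OddOrder.PF9.Line

/-!
# Peterfalvi (9.7) and the structural package of §9
-/

set_option autoImplicit false
set_option linter.unusedSectionVars false
set_option linter.style.haveILetI false

namespace Cfsg.Agent.Lib.OddOrder.PF9

open Subgroup
open scoped commutatorElement

universe u

variable {L : Type u} [Group L] [Finite L] {K H U W₁ W₂ H₀ C : Subgroup L} {p : ℕ}

/-- (9.7), the Galois case. -/
theorem step_9_7_galois (h : Hyp K H U W₁ W₂) (hk : IsChiefKernel H U H₀)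
    (h6 : Step_9_6 p H U W₁ W₂ H₀ C) (hC : IsFactorCentralizer H U H₀ C)
    (hG : IsGalois H U H₀) :
    C.relIndex U * (p - 1) ∣ p ^ Nat.card W₁ - 1 ∧ (C.relIndex U).Coprime (p - 1) ∧
    (∀ a ∈ U, a ∉ C → ∀ x ∈ H, ⁅a, x⁆ ∈ H₀ → x ∈ H₀) ∧
    (∃ a ∈ U, ∀ b ∈ U, ∃ n : ℕ, b * (a ^ n)⁻¹ ∈ C) := by
  classical
  haveI := h.H_normal
  haveI := hk.normal
  haveI : Fact p.Prime := ⟨h6.prime⟩
  obtain ⟨F, _, _, f, ψ, hcard, hadd, hsurj, hzero, hmul, hψmul, hψone, -⟩ :=
    step_9_7_field h hk h6 hC hG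
  have hf1 : f 1 = 0 := (hzero 1 H.one_mem).2 H₀.one_mem
  have hdiv : ∀ x ∈ H, ∀ y ∈ H, f x = f y → x * y⁻¹ ∈ H₀ := fun x hx y hy e => by
    have hxy := H.mul_mem hx (H.inv_mem hy)
    have h2 : f (x * y⁻¹) + f y = f x := by rw [← hadd _ hxy _ hy, inv_mul_cancel_right]
    rw [e, add_eq_right] at h2
    exact (hzero _ hxy).1 h2
  have hcongr : ∀ x ∈ H, ∀ y ∈ H, x * y⁻¹ ∈ H₀ → f x = f y := fun x hx y hy hm => by
    have hxy := H.mul_mem hx (H.inv_mem hy)
    have h2 : f (x * y⁻¹) + f y = f x := by rw [← hadd _ hxy _ hy, inv_mul_cancel_right]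
    rw [(hzero _ hxy).2 hm, zero_add] at h2
    exact h2.symm
  have hψU1 : ψ 1 = 1 := (hψone 1 U.one_mem).2 C.one_mem
  let ψu : U →* Fˣ :=
    { toFun := fun a => Units.mk0 (ψ a) (hmul a a.2).1
      map_one' := Units.ext hψU1
      map_mul' := fun a b => Units.ext (hψmul a a.2 b b.2) }
  have hker : ψu.ker = C.subgroupOf U := by
    ext a
    rw [MonoidHom.mem_ker, mem_subgroupOf, ← hψone a a.2, Units.ext_iff]
    rfl
  have hrange : C.relIndex U = Nat.card ψu.range := by rw [← index_ker, hker]; rfl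
  haveI : CharP F p := charP_of_card_eq_prime_pow hcard
  -- the image of `U` meets the prime field trivially
  have hprime : ∀ a ∈ U, ψ a ^ p = ψ a → a ∈ C := by
    intro a ha hpa
    obtain ⟨⟨w, hw⟩, hw1⟩ := Subgroup.ne_bot_iff_exists_ne_one.1 h.W₁_ne
    refine h6.fpf w hw (fun e => hw1 (Subtype.ext e)) a ha ?_
    obtain ⟨n, hn⟩ : ∃ n : ℕ, (n : F) = ψ a := by
      obtain ⟨z, hz⟩ := (mem_bot_iff_intCast p F).1
        ((Subfield.mem_bot_iff_pow_eq_self F p).2 hpa)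
      refine ⟨(z % p).toNat, ?_⟩
      rw [← hz, ← Int.cast_natCast (R := F) (z % p).toNat,
        Int.toNat_of_nonneg (Int.emod_nonneg _ (Nat.cast_ne_zero.2 h6.prime.ne_zero)),
        CharP.intCast_eq_intCast F p]
      exact Int.emod_emod_of_dvd z dvd_rfl
    have hfn : ∀ (x : L), x ∈ H → ∀ m : ℕ, f (x ^ m) = (m : F) * f x := by
      intro x hx m
      induction m with
      | zero => rw [pow_zero, hf1, Nat.cast_zero, zero_mul]
      | succ m ih => rw [pow_succ, hadd _ (H.pow_mem hx m) _ hx, ih, Nat.cast_succ, add_mul, one_mul]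
    have hb : w * a * w⁻¹ ∈ U := (mem_normalizer_iff.1 (h.W₁_normalizes hw) a).1 ha
    have hb' : ψ (w * a * w⁻¹) = ψ a := by
      obtain ⟨x, hx, hx1⟩ := hsurj 1
      have hy : w⁻¹ * x * w ∈ H := h.H_normal.conj_mem' x hx w
      have hay := h.H_normal.conj_mem _ hy a
      have h1 : f (a * (w⁻¹ * x * w) * a⁻¹) = f ((w⁻¹ * x * w) ^ n) := by
        rw [(hmul a ha).2 _ hy, hfn _ hy, hn]
      have h2 := hk.normal.conj_mem _ (hdiv _ hay _ (H.pow_mem hy n) h1) w
      have h3 : f (w * a * w⁻¹ * x * (w * a * w⁻¹)⁻¹) = f (x ^ n) := by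
        refine hcongr _ (h.H_normal.conj_mem _ hx _) _ (H.pow_mem hx n) ?_
        have e : (w⁻¹ * x * w) ^ n = w⁻¹ * x ^ n * w := by
          simpa only [inv_inv] using conj_pow (i := n) (a := w⁻¹) (b := x)
        rw [e] at h2
        have e2 : w * a * w⁻¹ * x * (w * a * w⁻¹)⁻¹ * (x ^ n)⁻¹ =
            w * (a * (w⁻¹ * x * w) * a⁻¹ * (w⁻¹ * x ^ n * w)⁻¹) * w⁻¹ := by group
        rwa [e2]
      rw [(hmul _ hb).2 x hx, hfn x hx, hx1, mul_one, mul_one, hn] at h3
      exact h3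
    have hmem : w * a * w⁻¹ * a⁻¹ ∈ U := U.mul_mem hb (U.inv_mem ha)
    rw [commutatorElement_def]
    refine (hψone _ hmem).1 ?_
    rw [hψmul _ hb _ (U.inv_mem ha), hb', ← hψmul _ ha _ (U.inv_mem ha), mul_inv_cancel, hψU1]
  -- the units of the prime field
  let P : ZMod p →+* F := ZMod.castHom dvd_rfl F
  let Pu : (ZMod p)ˣ →* Fˣ := Units.map (P : ZMod p →* F)
  have hPinj : Function.Injective Pu := Units.map_injective P.injective
  have hPcard : Nat.card Pu.range = p - 1 := by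
    rw [Nat.card_congr (MonoidHom.ofInjective hPinj).symm.toEquiv, Nat.card_eq_fintype_card,
      ZMod.card_units]
  have hmeet : ψu.range ⊓ Pu.range = ⊥ := by
    rw [eq_bot_iff]
    rintro z ⟨⟨a, rfl⟩, b, hb⟩
    rw [Subgroup.mem_bot]
    refine Units.ext ?_
    show ψ a = 1
    rw [hψone a a.2]
    refine hprime a a.2 ?_
    have e : ψ a = P (b : ZMod p) := (congrArg Units.val hb).symm
    rw [e, ← map_pow, ZMod.pow_card]
  have hcop : (Nat.card ψu.range).Coprime (Nat.card Pu.range) := by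
    refine Nat.coprime_of_dvd fun r hr h1 h2 => ?_
    haveI : Fact r.Prime := ⟨hr⟩
    obtain ⟨x, hx⟩ := exists_prime_orderOf_dvd_card' r h1
    obtain ⟨y, hy⟩ := exists_prime_orderOf_dvd_card' r h2
    have hxr : IsPrimitiveRoot ((x : Fˣ) : F) r := by
      rw [← hx, ← Subgroup.orderOf_coe, ← orderOf_units]
      exact IsPrimitiveRoot.orderOf _
    have hyr : ((y : Fˣ) : F) ^ r = 1 := by
      rw [← Units.val_pow_eq_pow_val, ← Subgroup.coe_pow, ← hy, pow_orderOf_eq_one,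
        Subgroup.coe_one, Units.val_one]
    haveI : NeZero r := ⟨hr.ne_zero⟩
    obtain ⟨i, -, hi⟩ := hxr.eq_pow_of_pow_eq_one hyr
    have hy' : (y : Fˣ) ∈ ψu.range ⊓ Pu.range := by
      refine ⟨?_, y.2⟩
      have : (y : Fˣ) = (x : Fˣ) ^ i := Units.ext (by rw [Units.val_pow_eq_pow_val, hi])
      rw [this]
      exact ψu.range.pow_mem x.2 i
    rw [hmeet, Subgroup.mem_bot] at hy'
    have : y = 1 := Subtype.ext hy'
    rw [this, orderOf_one] at hy
    exact hr.ne_one hy.symm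
  have hunits : Nat.card Fˣ = p ^ Nat.card W₁ - 1 := by
    rw [Nat.card_eq_fintype_card, Fintype.card_units, hcard]
  refine ⟨?_, ?_, fun a ha haC x hx hax => ?_, ?_⟩
  · rw [hrange, ← hPcard, ← hunits]
    exact hcop.mul_dvd_of_dvd_of_dvd (card_subgroup_dvd_card _) (card_subgroup_dvd_card _)
  · rwa [hrange, ← hPcard]
  · have hax' := h.H_normal.conj_mem x hx a
    have h1 : f (a * x * a⁻¹) = f x := hcongr _ hax' _ hx (by rwa [commutatorElement_def] at hax)
    rw [(hmul a ha).2 x hx, mul_left_eq_self₀] at h1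
    exact (hzero x hx).1 (h1.resolve_left fun e => haC ((hψone a ha).1 e))
  · obtain ⟨⟨_, a, rfl⟩, hg⟩ := IsCyclic.exists_generator (α := ψu.range)
    refine ⟨a, a.2, fun b hb => ?_⟩
    have h1 := hg ⟨ψu ⟨b, hb⟩, ⟨_, rfl⟩⟩
    rw [← mem_powers_iff_mem_zpowers] at h1
    obtain ⟨n, hn⟩ := h1
    refine ⟨n, ?_⟩
    have h2 : (⟨b, hb⟩ : U) * (a ^ n)⁻¹ ∈ ψu.ker := by
      rw [MonoidHom.mem_ker, map_mul, map_inv, map_pow]
      have h3 : ψu a ^ n = ψu ⟨b, hb⟩ := congrArg Subtype.val hn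
      rw [h3, mul_inv_cancel]
    rw [hker, mem_subgroupOf] at h2
    simpa using h2

/-- (9.7). -/
theorem step_9_7 (h : Hyp K H U W₁ W₂) (hk : IsChiefKernel H U H₀)
    (h6 : Step_9_6 p H U W₁ W₂ H₀ C) (hC : IsFactorCentralizer H U H₀ C) :
    Step_9_7 p H U W₁ H₀ C :=
  ⟨step_9_7_galois h hk h6 hC, step_9_7_line h hk h6 hC⟩

/-- The hypotheses of (9.8)–(9.11). -/
theorem setting (h : Hyp K H U W₁ W₂) (hk : IsChiefKernel H U H₀)
    (h6 : Step_9_6 p H U W₁ W₂ H₀ C) (hC : IsFactorCentralizer H U H₀ C) :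
    PF9Char.Setting K H U W₁ W₂ H₀ C p (Nat.card W₁) where
  prime_p := h6.prime
  prime_q := h.W₁_prime
  odd := h.odd
  solvable := h.isSolvable_K
  K_normal := h.K_normal
  H_normal := h.H_normal
  H₀_normal := hk.normal
  H₀_le := hk.lt.le
  H_le := h.H_le
  U_le := h.U_le
  H_inf_U := h.compl_HU.1
  H_sup_U := h.compl_HU.2
  coprime_HU := h.coprime_HU
  W₁_normalizes := h.W₁_normalizes
  K_inf_W₁ := h.compl_KW.1
  K_sup_W₁ := h.compl_KW.2
  card_W₁ := rfl
  coprime_W₁ := h.coprime_KW.symm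
  W₂_le := h.W₂_le
  W₂_cyclic := h.W₂_cyclic
  W₂_ne := h.W₂_ne
  centralizer_W₁ := h.W₂_eq
  W₂_quot := h6.W₂_image
  H₀_relIndex := h6.index_eq
  pow_mem := h6.pow_mem
  commutator_mem := fun x hx y hy => by
    simpa [commutatorElement_def] using h6.comm_mem x hx y hy
  chief := hk.maximal
  mem_C := fun x => (hC x).trans (and_congr_right fun _ => by simp [commutatorElement_def])
  C_lt := h6.C_lt
  quot_comm := fun x hx y hy => by
    simpa [commutatorElement_def] using h6.derived_le (commutator_mem_commutator hx hy)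

/-- The dichotomy in the form of `PF9Char`. -/
theorem dichotomy (h : Hyp K H U W₁ W₂) (hk : IsChiefKernel H U H₀)
    (h6 : Step_9_6 p H U W₁ W₂ H₀ C) (hC : IsFactorCentralizer H U H₀ C) :
    PF9Char.Dichotomy H U W₁ H₀ p := by
  by_cases hG : IsGalois H U H₀
  · exact Or.inl hG
  obtain ⟨H₁, K₁, hlt, hle, hU, hp, hgen, hK₁, h1, h2, -⟩ := step_9_7_line h hk h6 hC hG
  exact Or.inr ⟨H₁, K₁, K₁.relIndex U,
    { H₀_le := hlt.le
      le_H := hle
      relIndex := hp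
      normalizes := hU
      generates := by rw [iSup_subtype]; exact hgen
      mem_C₁ := fun x => (hK₁ x).trans (and_congr_right fun _ => by simp [commutatorElement_def])
      index_C₁ := rfl
      one_lt := h1
      dvd := (Dvd.intro_left 2 rfl).trans h2 }⟩

/-- The structural package of §9. -/
theorem package (h : Hyp K H U W₁ W₂) : Package K H U W₁ W₂ := by
  refine ⟨step_9_3 h, step_9_4 h, fun H₀ hk => ?_⟩
  obtain ⟨p, C, hC, h1, h2, h6, hp⟩ := step_9_6 h hk
  exact ⟨p, C, hC, h1, h2, h6, hp, step_9_7 h hk h6 hC, step_9_7_field h hk h6 hC,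
    setting h hk h6 hC, dichotomy h hk h6 hC⟩

end Cfsg.Agent.Lib.OddOrder.PF9
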