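import Cfsg.Agent.Lib.OddOrder.Interface.PF9
import Cfsg.Agent.Lib.OddOrder.TypeP
import Cfsg.Agent.Lib.OddOrder.MinSimple
import Cfsg.Agent.Lib.Coprime.Conjugacy

/-!
# Peterfalvi (9.1), (9.3): Hypothesis (9.1) from type-P data
-/

set_option autoImplicit false
set_option linter.style.haveILetI false

namespace Cfsg.Agent.Lib.OddOrder.PF9.Setup

open Cfsg.Agent.Lib.OddOrder.Basic
open scoped commutatorElement Pointwise

universe u

variable {G : Type u} [Group G] [Finite G]

set_option linter.unusedSectionVars false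
set_option linter.unusedVariables false

theorem subgroupOf_inf' (A B M : Subgroup G) :
    A.subgroupOf M ⊓ B.subgroupOf M = (A ⊓ B).subgroupOf M := rfl

theorem card_subgroupOf {A M : Subgroup G} (h : A ≤ M) :
    Nat.card (A.subgroupOf M) = Nat.card A :=
  Nat.card_congr (Subgroup.subgroupOfEquivOfLe h).toEquiv

theorem subgroupOf_ne_bot {A M : Subgroup G} (h : A ≤ M) (hA : A ≠ ⊥) : A.subgroupOf M ≠ ⊥ := by
  rw [Ne, Subgroup.subgroupOf_eq_bot, disjoint_iff, inf_eq_left.2 h]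
  exact hA

/-- (9.1). -/
theorem hyp (hG : Cfsg.IsMinSimpleOddOrder G) {M W₁ U W₂ : Subgroup G}
    (hP : Cfsg.IsTypePWith M W₁ U W₂) (hU : U ≠ ⊥) (hq : (Nat.card W₁).Prime) :
    Hyp ((⁅M, M⁆ : Subgroup G).subgroupOf M) (Cfsg.fittingHall M) (U.subgroupOf M)
      (W₁.subgroupOf M) (W₂.subgroupOf M) := by
  have hKM : ⁅M, M⁆ ≤ M := TypeP.derived_le M
  have hHM := fittingHallOf_le M
  have hHK : Cfsg.fittingHallOf M ≤ ⁅M, M⁆ := hP.U_compl.1
  have hUM := TypeP.U_le hP
  have hW1M : W₁ ≤ M := hP.W₁_compl.2.1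
  have hW2H : W₂ ≤ Cfsg.fittingHallOf M := hP.W₂_le.trans inf_le_left
  have hHeq : (Cfsg.fittingHallOf M).subgroupOf M = Cfsg.fittingHall M := by
    rw [Cfsg.fittingHallOf, Subgroup.subgroupOf,
      Subgroup.comap_map_eq_self_of_injective (Subgroup.subtype_injective M)]
  haveI hKn : ((⁅M, M⁆ : Subgroup G).subgroupOf M).Normal := by
    refine ⟨fun x hx m => ?_⟩
    rw [Subgroup.mem_subgroupOf] at hx ⊢
    have := Subgroup.map_commutator M M (MulAut.conj (m : G)).toMonoidHom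
    have hM : M.map (MulAut.conj (m : G)).toMonoidHom = M := by
      ext y
      constructor
      · rintro ⟨z, hz, rfl⟩
        exact M.mul_mem (M.mul_mem m.2 hz) (M.inv_mem m.2)
      · intro hy
        exact ⟨(m : G)⁻¹ * y * m, M.mul_mem (M.mul_mem (M.inv_mem m.2) hy) m.2, by
          simp [mul_assoc]⟩
    rw [hM] at this
    rw [← this]
    exact ⟨x, hx, rfl⟩
  exact {
    odd := MinSimple.odd_card hG M
    K_normal := hKn
    H_normal := Cfsg.fittingHall_normal M
    H_nilpotent := (fittingHall_spec M).1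
    U_nilpotent := by
      haveI := hP.U_nilpotent
      exact Group.nilpotent_of_mulEquiv (Subgroup.subgroupOfEquivOfLe hUM).symm
    U_ne := subgroupOf_ne_bot hUM hU
    U_le := Subgroup.comap_mono hP.U_compl.2.1
    H_le := hHeq ▸ Subgroup.comap_mono hHK
    compl_HU := by
      constructor
      · rw [← hHeq, subgroupOf_inf', hP.U_compl.2.2.1, Subgroup.bot_subgroupOf]
      · rw [← hHeq, ← Subgroup.subgroupOf_sup hHM hUM, isComplIn_sup hP.U_compl]
    compl_KW := by
      constructor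
      · rw [subgroupOf_inf', hP.W₁_compl.2.2.1, Subgroup.bot_subgroupOf]
      · rw [← Subgroup.subgroupOf_sup hKM hW1M, isComplIn_sup hP.W₁_compl, Subgroup.subgroupOf_self]
    coprime_HU := by
      rw [← hHeq, card_subgroupOf hHM, card_subgroupOf hUM]
      exact TypeP.coprime_H_U hP
    coprime_KW := by
      rw [card_subgroupOf hKM, card_subgroupOf hW1M]
      have h := hP.W₁_hall
      rw [isComplIn_relIndex (isComplIn_symm hP.W₁_compl)] at h
      exact h.symm
    W₁_prime := by rw [card_subgroupOf hW1M]; exact hq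
    W₁_normalizes := by
      intro w hw
      rw [Subgroup.mem_normalizer_iff]
      intro x
      simp only [Subgroup.mem_subgroupOf, Subgroup.coe_mul, Subgroup.coe_inv]
      exact Subgroup.mem_normalizer_iff.1 (hP.U_normal hw) x
    W₂_ne := subgroupOf_ne_bot (hW2H.trans hHM) hP.selfNormalizing.2.1
    W₂_cyclic := by
      haveI : IsCyclic ↥(W₁ ⊔ W₂) := hP.selfNormalizing.2.2.2.2.1
      haveI : IsCyclic W₂ := isCyclic_of_injective (Subgroup.inclusion (le_sup_right : W₂ ≤ W₁ ⊔ W₂))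
        (Subgroup.inclusion_injective _)
      exact isCyclic_of_surjective (Subgroup.subgroupOfEquivOfLe (hW2H.trans hHM)).symm.toMonoidHom
        (MulEquiv.surjective _)
    W₂_le := hHeq ▸ Subgroup.comap_mono hW2H
    W₂_eq := by
      intro x hx hx1
      have h := hP.W₂_centralizer x hx (fun e => hx1 (Subtype.ext e))
      ext y
      rw [← h]
      simp only [Subgroup.mem_inf, Subgroup.mem_subgroupOf, Subgroup.mem_centralizer_singleton_iff,
        Subtype.ext_iff, Subgroup.coe_mul]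
    U_not_cent := by
      intro hle
      refine hU (TypeP.U_eq_bot_of_centralizes hP fun a ha => ?_)
      rw [Subgroup.mem_centralizer_iff]
      intro h hh
      have hh' : (⟨h, hHM hh⟩ : M) ∈ Cfsg.fittingHall M := by rw [← hHeq]; exact hh
      exact congrArg Subtype.val
        (Subgroup.mem_centralizer_iff.1 (hle (x := ⟨a, hUM ha⟩) ha) ⟨h, hHM hh⟩ hh')
    U_derived := by
      intro y hy
      have hy' : (y : G) ∈ ⁅U, U⁆ := by
        have := Subgroup.map_commutator (U.subgroupOf M) (U.subgroupOf M) M.subtype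
        rw [Subgroup.map_subgroupOf_eq_of_le hUM] at this
        rw [← this]
        exact ⟨y, hy, rfl⟩
      rw [Subgroup.mem_centralizer_iff]
      intro h hh
      refine Subtype.ext (Subgroup.mem_centralizer_iff.1 (TypeP.derived_U_le hP hy') h ?_)
      exact ⟨h, hh, rfl⟩ }

/-- (9.3), Type II: `C_H(U) = 1`. -/
theorem centralizer_eq_bot (hG : Cfsg.IsMinSimpleOddOrder G) {M W₁ U W₂ : Subgroup G}
    (hM : IsCoatom M) (hP : Cfsg.IsTypePWith M W₁ U W₂) (hU : U ≠ ⊥)
    (hF : Cfsg.IsOfTypeF ↥⁅M, M⁆)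
    (hFH : Cfsg.fittingHallOf ⁅M, M⁆ = Cfsg.fittingHallOf M) :
    Cfsg.fittingHallOf M ⊓ Subgroup.centralizer (U : Set G) = ⊥ := by
  set K := ⁅M, M⁆ with hK
  obtain ⟨hsol, -, -, -, U', hU'1, hcompl, -, U₀, hU₀le, hexp, hfpf⟩ := hF
  set N := Cfsg.fittingHall K with hN
  have hUK : U ≤ K := hP.U_compl.2.1
  have hNH : N.map K.subtype = Cfsg.fittingHallOf M := hFH
  have hcard := isComplIn_card hP.U_compl
  have hcop : (Nat.card N).Coprime N.index := (fittingHall_spec K).2
  have hNcard : Nat.card N = Nat.card (Cfsg.fittingHallOf M) := by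
    rw [← hNH, Subgroup.card_map_of_injective (Subgroup.subtype_injective K)]
  have hcomplU : Subgroup.IsComplement' N (U.subgroupOf K) := by
    refine Subgroup.isComplement'_of_disjoint_and_mul_eq_univ ?_ ?_
    · rw [disjoint_iff, eq_bot_iff]
      rintro x ⟨hx1, hx2⟩
      have : (x : G) ∈ Cfsg.fittingHallOf M ⊓ U :=
        ⟨hNH ▸ Subgroup.mem_map_of_mem K.subtype hx1, hx2⟩
      rw [hP.U_compl.2.2.1, Subgroup.mem_bot] at this
      exact Subgroup.mem_bot.2 (Subtype.ext this)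
    · rw [Set.eq_univ_iff_forall]
      intro x
      obtain ⟨a, ha, b, hb, hab⟩ := hP.U_compl.2.2.2 x x.2
      rw [← hNH] at ha
      obtain ⟨n, hn, rfl⟩ := ha
      exact ⟨n, hn, ⟨b, hUK hb⟩, hb, Subtype.ext hab.symm⟩
  obtain ⟨n, hn, hconj⟩ := Coprime.exists_conj_eq_of_isComplement' hcop
    (Or.inl (by haveI := hsol; infer_instance)) hcompl hcomplU
  have hU₀ : U₀ ≠ ⊥ := by
    intro h
    have he : Monoid.exponent U' = 1 := by
      rw [← hexp, h]; exact Monoid.exp_eq_one_iff.2 inferInstance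
    exact hU'1 (Subgroup.eq_bot_of_card_eq _
      (Nat.card_eq_one_iff_unique.2 ⟨Monoid.exp_eq_one_iff.1 he, inferInstance⟩))
  obtain ⟨⟨u₀, hu₀⟩, hu₀1⟩ := Subgroup.ne_bot_iff_exists_ne_one.1 hU₀
  rw [eq_bot_iff]
  rintro x ⟨hxH, hxC⟩
  rw [SetLike.mem_coe, ← hNH] at hxH
  obtain ⟨y, hy, rfl⟩ := hxH
  have hmem : n * u₀ * n⁻¹ ∈ U.subgroupOf K := by
    rw [← hconj, Subgroup.mem_smul_pointwise_iff_exists]
    exact ⟨u₀, hU₀le hu₀, by simp⟩
  have hc : (n * u₀ * n⁻¹) * y = y * (n * u₀ * n⁻¹) :=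
    Subtype.ext (Subgroup.mem_centralizer_iff.1 hxC _ hmem)
  have hy' : n⁻¹ * y * n ∈ N := (Cfsg.fittingHall_normal K).conj_mem' _ hy n
  have h1 := hfpf u₀ hu₀ (fun e => hu₀1 (Subtype.ext e)) (n⁻¹ * y * n) hy' (by
    calc u₀ * (n⁻¹ * y * n) = n⁻¹ * ((n * u₀ * n⁻¹) * y) * n := by group
      _ = n⁻¹ * y * n * u₀ := by rw [hc]; group)
  have h2 : y = 1 := by
    calc y = n * (n⁻¹ * y * n) * n⁻¹ := by group
      _ = 1 := by rw [h1]; group
  rw [h2]; simp

/-- (9.1) and the Type II part of (9.3). -/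
theorem step_9_1 : Step_9_1 G := fun hG _ _ _ _ hM hP hU hq =>
  ⟨hyp hG hP hU hq, centralizer_eq_bot hG hM hP hU⟩

end Cfsg.Agent.Lib.OddOrder.PF9.Setup
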