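import Cfsg.Agent.Lib.OddOrder.Interface.PF9
import Cfsg.Agent.Lib.Isometry.FrobeniusFixed
import Cfsg.Agent.Lib.OddOrder.Basic
import Cfsg.Agent.Lib.Coprime.Glauberman

/-!
# Peterfalvi §9: first consequences of Hypothesis (9.1), and (9.3)
-/

set_option autoImplicit false
set_option linter.unusedSectionVars false
set_option linter.style.haveILetI false

namespace Cfsg.Agent.Lib.OddOrder.PF9

open Subgroup
open scoped commutatorElement

universe u

variable {L : Type u} [Group L] [Finite L] {K H U W₁ W₂ : Subgroup L}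

namespace Hyp

theorem K_eq (h : Hyp K H U W₁ W₂) : K = H ⊔ U := h.compl_HU.2.symm

theorem H_le_normalizer (h : Hyp K H U W₁ W₂) (S : Subgroup L) :
    S ≤ normalizer (H : Set L) := by
  haveI := h.H_normal
  rw [normalizer_eq_top]
  exact le_top

theorem K_le_normalizer (h : Hyp K H U W₁ W₂) (S : Subgroup L) :
    S ≤ normalizer (K : Set L) := by
  haveI := h.K_normal
  rw [normalizer_eq_top]
  exact le_top

/-- Every element of `K` is a product `x * a`, `x ∈ H`, `a ∈ U`. -/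
theorem exists_mul (h : Hyp K H U W₁ W₂) {k : L} (hk : k ∈ K) : ∃ x ∈ H, ∃ a ∈ U, k = x * a := by
  haveI := h.H_normal
  rw [h.K_eq, Subgroup.mem_sup_of_normal_left] at hk
  obtain ⟨x, hx, a, ha, e⟩ := hk
  exact ⟨x, hx, a, ha, e.symm⟩

/-- Every element of `L` is a product `k * w`, `k ∈ K`, `w ∈ W₁`. -/
theorem exists_mul' (h : Hyp K H U W₁ W₂) (g : L) : ∃ k ∈ K, ∃ w ∈ W₁, g = k * w := by
  haveI := h.K_normal
  have hg : g ∈ K ⊔ W₁ := by rw [h.compl_KW.2]; exact mem_top g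
  rw [Subgroup.mem_sup_of_normal_left] at hg
  obtain ⟨x, hx, a, ha, e⟩ := hg
  exact ⟨x, hx, a, ha, e.symm⟩

theorem card_K (h : Hyp K H U W₁ W₂) : Nat.card K = Nat.card H * Nat.card U := by
  refine (Cfsg.Agent.Lib.OddOrder.Basic.isComplIn_card
    (A := H) (B := U) (M := K) ⟨h.H_le, h.U_le, h.compl_HU.1, fun m hm => ?_⟩).symm
  exact h.exists_mul hm

theorem card_L (h : Hyp K H U W₁ W₂) : Nat.card L = Nat.card K * Nat.card W₁ := by
  have hc : Cfsg.IsComplIn K W₁ ⊤ :=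
    ⟨le_top, le_top, h.compl_KW.1, fun m _ => h.exists_mul' m⟩
  have := Cfsg.Agent.Lib.OddOrder.Basic.isComplIn_card hc
  rw [Subgroup.card_top] at this
  exact this.symm

theorem H_dvd_K (h : Hyp K H U W₁ W₂) : Nat.card H ∣ Nat.card K := card_dvd_of_le h.H_le

theorem U_dvd_K (h : Hyp K H U W₁ W₂) : Nat.card U ∣ Nat.card K := card_dvd_of_le h.U_le

theorem W₁_ne (h : Hyp K H U W₁ W₂) : W₁ ≠ ⊥ := fun e => by
  have := h.W₁_prime.one_lt
  rw [e, Subgroup.card_bot] at this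
  omega

theorem three_le_q (h : Hyp K H U W₁ W₂) : 3 ≤ Nat.card W₁ := by
  have h2 := h.W₁_prime.two_le
  have hodd : Odd (Nat.card W₁) := h.odd.of_dvd_nat W₁.card_subgroup_dvd_card
  obtain ⟨k, hk⟩ := hodd
  omega

/-- A nontrivial element of `W₁` commutes with no nontrivial element of `U`. -/
theorem fpf_U (h : Hyp K H U W₁ W₂) {w : L} (hw : w ∈ W₁) (hw1 : w ≠ 1) {a : L} (ha : a ∈ U)
    (hc : w * a = a * w) : a = 1 := by
  have h1 : a ∈ K ⊓ centralizer ({w} : Set L) :=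
    ⟨h.U_le ha, mem_centralizer_singleton_iff.2 hc.symm⟩
  rw [h.W₂_eq w hw hw1] at h1
  have h2 : a ∈ H ⊓ U := ⟨h.W₂_le h1, ha⟩
  rwa [h.compl_HU.1, mem_bot] at h2

theorem U_inf_W₁ (h : Hyp K H U W₁ W₂) : U ⊓ W₁ = ⊥ :=
  le_bot_iff.1 ((inf_le_inf_right W₁ h.U_le).trans h.compl_KW.1.le)

theorem frobenius (h : Hyp K H U W₁ W₂) :
    ∀ r ∈ W₁, r ≠ 1 → U ⊓ centralizer ({r} : Set L) = ⊥ := fun r hr hr1 => by
  rw [eq_bot_iff]
  rintro a ⟨ha, hc⟩
  exact Subgroup.mem_bot.2 (h.fpf_U hr hr1 ha (mem_centralizer_singleton_iff.1 hc).symm)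

theorem card_UW₁ (h : Hyp K H U W₁ W₂) :
    Nat.card ↥(U ⊔ W₁) = Nat.card U * Nat.card W₁ := by
  refine (Cfsg.Agent.Lib.OddOrder.Basic.isComplIn_card (A := U) (B := W₁) (M := U ⊔ W₁)
    ⟨le_sup_left, le_sup_right, h.U_inf_W₁, fun m hm => ?_⟩).symm
  have hcoe := coe_mul_of_left_le_normalizer_right W₁ U h.W₁_normalizes
  rw [sup_comm] at hcoe
  obtain ⟨w, hw, a, ha, rfl⟩ := hcoe ▸ (show m ∈ ((U ⊔ W₁ : Subgroup L) : Set L) from hm)
  exact ⟨w * a * w⁻¹, (mem_normalizer_iff.1 (h.W₁_normalizes hw) a).1 ha, w, hw, by simp⟩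

theorem coprime_UW₁_H (h : Hyp K H U W₁ W₂) :
    (Nat.card ↥(U ⊔ W₁)).Coprime (Nat.card H) := by
  rw [h.card_UW₁]
  exact h.coprime_HU.symm.mul_left (h.coprime_KW.symm.coprime_dvd_right h.H_dvd_K)

theorem W₁_coprime_U (h : Hyp K H U W₁ W₂) : (Nat.card W₁).Coprime (Nat.card U) :=
  h.coprime_KW.symm.coprime_dvd_right h.U_dvd_K

theorem centralizer_W₁ (h : Hyp K H U W₁ W₂) : H ⊓ centralizer (W₁ : Set L) = W₂ := by
  obtain ⟨⟨w, hw⟩, hw1⟩ := Subgroup.ne_bot_iff_exists_ne_one.1 h.W₁_ne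
  apply le_antisymm
  · rintro x ⟨hx, hc⟩
    rw [← h.W₂_eq w hw fun e => hw1 (Subtype.ext e)]
    exact ⟨h.H_le hx, mem_centralizer_singleton_iff.2 ((mem_centralizer_iff.1 hc w hw).symm)⟩
  · intro x hx
    refine ⟨h.W₂_le hx, mem_centralizer_iff.2 fun v hv => ?_⟩
    rcases eq_or_ne v 1 with rfl | hv1
    · simp
    · rw [← h.W₂_eq v hv hv1] at hx
      exact (mem_centralizer_singleton_iff.1 hx.2).symm

theorem W₂_comm (h : Hyp K H U W₁ W₂) {w x : L} (hw : w ∈ W₁) (hx : x ∈ W₂) : w * x = x * w := by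
  rw [← h.centralizer_W₁] at hx
  exact mem_centralizer_iff.1 hx.2 w hw

end Hyp

open Cfsg.Agent.Lib.OddLocal in
/-- (9.3). -/
theorem step_9_3 (h : Hyp K H U W₁ W₂) : Step_9_3 K H U W₁ W₂ := by
  haveI hn : (U.subgroupOf (U ⊔ W₁)).Normal :=
    FrobeniusAmbient.normal_subgroupOf_sup h.W₁_normalizes
  have hKM := h.H_le_normalizer U
  have hRM := h.H_le_normalizer W₁
  haveI : Group.IsSolvable H := by haveI := h.H_nilpotent; infer_instance
  have hf := Isometry.FrobeniusFixed.formula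
    (FrobeniusAmbient.isComplement'_subgroupOf h.U_inf_W₁ h.W₁_normalizes)
    (FrobeniusAmbient.fpf_subgroupOf h.frobenius) _ H (FrobeniusAmbient.act hKM hRM) rfl
    inferInstance h.coprime_UW₁_H
  have hc : ∀ S : Subgroup L, S ≤ U ⊔ W₁ →
      Nat.card (FrobeniusAction.fixed (FrobeniusAmbient.act hKM hRM) (S.subgroupOf (U ⊔ W₁))) =
        Nat.card ↥(H ⊓ centralizer (S : Set L)) := fun S hS => by
    rw [← FrobeniusAmbient.map_fixed hKM hRM hS, card_map_of_injective H.subtype_injective]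
  have hq : Nat.card (W₁.subgroupOf (U ⊔ W₁)) = Nat.card W₁ :=
    Nat.card_congr (subgroupOfEquivOfLe (le_sup_right : W₁ ≤ U ⊔ W₁)).toEquiv
  have e1 := hc (U ⊔ W₁) le_rfl
  rw [subgroupOf_self] at e1
  rw [hc W₁ le_sup_right, hc U le_sup_left, e1, hq, h.centralizer_W₁] at hf
  refine ⟨by rw [mul_comm, hf, mul_comm], fun hp => ?_, h.K_eq⟩
  have hle : H ⊓ centralizer ((U ⊔ W₁ : Subgroup L) : Set L) ≤ W₂ := by
    rw [← h.centralizer_W₁]
    exact inf_le_inf_left H (centralizer_le (SetLike.coe_subset_coe.2 le_sup_right))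
  rcases hp.eq_one_or_self_of_dvd _ (card_dvd_of_le hle) with e | e
  · exact card_eq_one.1 e
  · exfalso
    rw [e, mul_comm (Nat.card W₂ ^ Nat.card W₁) (Nat.card H), mul_comm (Nat.card W₂ ^ Nat.card W₁)] at hf
    have h1 : Nat.card H = Nat.card ↥(H ⊓ centralizer (U : Set L)) :=
      Nat.eq_of_mul_eq_mul_right (pow_pos hp.pos (Nat.card W₁)) hf
    have h2 : H ⊓ centralizer (U : Set L) = H := eq_of_le_of_card_ge inf_le_left h1.le
    exact h.U_not_cent (le_centralizer_iff.1 (inf_eq_left.1 h2))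

end Cfsg.Agent.Lib.OddOrder.PF9
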