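import Cfsg.Agent.Lib.OddOrder.PF9.Basic
import Cfsg.Agent.Lib.Coprime.Commutator
import Cfsg.Agent.Lib.Isometry.KernelCoherence

/-!
# Peterfalvi (9.4)-(9.6): the chief kernel `H₀` and `C = C_U(H/H₀)`
-/

set_option autoImplicit false
set_option linter.unusedSectionVars false
set_option linter.style.haveILetI false

namespace Cfsg.Agent.Lib.OddOrder.PF9

open Subgroup Cfsg.Agent.Lib.Coprime
open scoped commutatorElement

universe u

variable {L : Type u} [Group L] [Finite L] {K H U W₁ W₂ H₀ : Subgroup L}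

namespace Hyp

theorem normal_of_normalized (h : Hyp K H U W₁ W₂) {S : Subgroup L}
    (hH : H ≤ normalizer (S : Set L)) (hU : U ≤ normalizer (S : Set L))
    (hW : W₁ ≤ normalizer (S : Set L)) : S.Normal := by
  rw [← normalizer_eq_top_iff, eq_top_iff, ← h.compl_KW.2, h.K_eq]
  exact sup_le (sup_le hH hU) hW

theorem cent_le_normalizer (h : Hyp K H U W₁ W₂) {A : Subgroup L} (hA : A ≤ U ⊔ W₁) :
    A ≤ normalizer ((H ⊓ centralizer (U : Set L) : Subgroup L) : Set L) := by
  refine le_normalizer_inf (h.H_le_normalizer A) ?_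
  refine hA.trans ((sup_le le_normalizer h.W₁_normalizes).trans ?_)
  exact le_normalizer_of_normal_subgroupOf (centralizer_le_normalizer (U : Set L))

theorem isSolvable_H (h : Hyp K H U W₁ W₂) : Group.IsSolvable H := by
  haveI := h.H_nilpotent
  infer_instance

theorem isSolvable_U (h : Hyp K H U W₁ W₂) : Group.IsSolvable U := by
  haveI := h.U_nilpotent
  infer_instance

theorem isSolvable_K (h : Hyp K H U W₁ W₂) : Group.IsSolvable K := by
  haveI := h.H_normal
  haveI := h.isSolvable_H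
  haveI := h.isSolvable_U
  let g := QuotientGroup.mk' (H.subgroupOf K)
  haveI : Group.IsSolvable (K ⧸ H.subgroupOf K) := by
    refine Group.isSolvable_of_surjective (f := g.comp (inclusion h.U_le)) fun y => ?_
    obtain ⟨⟨k, hk⟩, rfl⟩ := QuotientGroup.mk_surjective y
    obtain ⟨x, hx, a, ha, rfl⟩ := h.exists_mul hk
    refine ⟨⟨a, ha⟩, QuotientGroup.eq.2 ?_⟩
    rw [mem_subgroupOf]
    simp only [coe_mul, coe_inv, coe_inclusion]
    have := (h.H_normal).conj_mem x hx a⁻¹
    simpa [mul_assoc] using this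
  refine Group.isSolvable_of_ker_le_range (inclusion h.H_le) g fun x hx => ?_
  rw [QuotientGroup.ker_mk'] at hx
  exact ⟨⟨x, hx⟩, Subtype.ext rfl⟩

end Hyp

theorem le_normalizer_of_commutator_mem {A S T : Subgroup L} (hT : T ≤ S)
    (hc : ∀ x ∈ A, ∀ y ∈ S, ⁅x, y⁆ ∈ T) : A ≤ normalizer (S : Set L) := by
  refine le_normalizer_iff.mpr fun x hx y hy => ?_
  have : x * y * x⁻¹ = ⁅x, y⁆ * y := by simp [commutatorElement_def]
  rw [this]
  exact mul_mem (hT (hc x hx y hy)) hy

/-- A nilpotent `H` is not the product of `H'` and a proper subgroup. -/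
theorem eq_of_sup_derived {S : Subgroup L} (hH : Group.IsNilpotent H) (hS : S ≤ H)
    (e : S ⊔ ⁅H, H⁆ = H) : S = H := by
  have key : S.subgroupOf H ⊔ commutator H = ⊤ := by
    apply map_injective H.subtype_injective
    rw [Subgroup.map_sup, map_subgroupOf_eq_of_le hS, commutator_def, map_commutator,
      ← MonoidHom.range_eq_map, Subgroup.range_subtype, e]
  exact le_antisymm hS (subgroupOf_eq_top.1 (Isometry.KernelCoherence.eq_top_of_sup_commutator hH key))

/-- (9.4): a chief kernel exists. -/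
theorem step_9_4 (h : Hyp K H U W₁ W₂) : Step_9_4 H U := by
  classical
  haveI := h.H_normal
  set B := ⁅H, H⁆ ⊔ (H ⊓ centralizer (U : Set L)) with hB
  have hBH : B ≤ H := sup_le (commutator_le_right H H) inf_le_left
  have hBn : B.Normal := h.normal_of_normalized
    (le_normalizer_of_commutator_mem le_sup_left fun x hx y hy =>
      commutator_mem_commutator hx (hBH hy))
    (le_normalizer_sup (by rw [normalizer_eq_top]; exact le_top) (h.cent_le_normalizer le_sup_left))
    (le_normalizer_sup (by rw [normalizer_eq_top]; exact le_top) (h.cent_le_normalizer le_sup_right))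
  have hBne : B ≠ H := fun e => by
    rw [hB, sup_comm] at e
    exact h.U_not_cent (le_centralizer_iff.1
      (inf_eq_left.1 (eq_of_sup_derived h.H_nilpotent inf_le_left e)))
  obtain ⟨N, -, hN⟩ := Finite.exists_le_maximal
    (p := fun N : Subgroup L => N.Normal ∧ B ≤ N ∧ N < H) ⟨hBn, le_rfl, lt_of_le_of_ne hBH hBne⟩
  obtain ⟨⟨hNn, hBN, hNH⟩, hmax⟩ := hN
  refine ⟨N, hNn, hNH, fun M hM hNM hMH => ?_, fun hc => ?_⟩
  · by_contra hne
    push Not at hne
    exact hne.1 (le_antisymm (hmax ⟨hM, hBN.trans hNM, lt_of_le_of_ne hMH hne.2⟩ hNM) hNM)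
  · refine hNH.not_ge fun x hx => ?_
    obtain ⟨n, hn, c, hc', rfl⟩ := exists_commutator_mul_fixed (h.H_le_normalizer U)
      h.coprime_HU.symm (Or.inr h.isSolvable_H) hx
    refine mul_mem ((commutator_le.2 fun k hk a ha => ?_ : ⁅H, U⁆ ≤ N) hn)
      (hBN (mem_sup_right hc'))
    rw [← commutatorElement_inv]
    exact inv_mem (hc a ha k hk)

/-- `C = C_U(H/H₀)`. -/
def factorCent (H U H₀ : Subgroup L) [H₀.Normal] : Subgroup L :=
  U ⊓ (centralizer ((H.map (QuotientGroup.mk' H₀) : Subgroup (L ⧸ H₀)) : Set (L ⧸ H₀))).comap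
    (QuotientGroup.mk' H₀)

theorem isFactorCentralizer_factorCent [H₀.Normal] :
    IsFactorCentralizer H U H₀ (factorCent H U H₀) := fun x => by
  simp only [factorCent, mem_inf, mem_comap, mem_centralizer_iff, SetLike.mem_coe, mem_map,
    forall_exists_index, and_imp, forall_apply_eq_imp_iff₂]
  refine and_congr_right fun _ => forall₂_congr fun k _ => ?_
  rw [← QuotientGroup.eq_one_iff (N := H₀) ⁅x, k⁆, ← QuotientGroup.mk'_apply,
    map_commutatorElement, commutatorElement_eq_one_iff_mul_comm]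
  exact eq_comm

theorem IsFactorCentralizer.unique {C D : Subgroup L} (hC : IsFactorCentralizer H U H₀ C)
    (hD : IsFactorCentralizer H U H₀ D) : C = D := SetLike.ext fun x => (hC x).trans (hD x).symm

namespace IsChiefKernel

theorem derived_le (hk : IsChiefKernel H U H₀) (h : Hyp K H U W₁ W₂) : ⁅H, H⁆ ≤ H₀ := by
  haveI := h.H_normal
  haveI := hk.normal
  rcases hk.maximal (H₀ ⊔ ⁅H, H⁆) inferInstance le_sup_left
    (sup_le hk.lt.le (commutator_le_right H H)) with e | e
  · exact sup_eq_left.1 e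
  · exact absurd (eq_of_sup_derived h.H_nilpotent hk.lt.le e) hk.lt.ne

theorem comm_mem (hk : IsChiefKernel H U H₀) (h : Hyp K H U W₁ W₂) :
    ∀ x ∈ H, ∀ y ∈ H, ⁅x, y⁆ ∈ H₀ :=
  fun _ hx _ hy => hk.derived_le h (commutator_mem_commutator hx hy)

theorem centU_le (hk : IsChiefKernel H U H₀) (h : Hyp K H U W₁ W₂) :
    H ⊓ centralizer (U : Set L) ≤ H₀ := by
  haveI := h.H_normal
  haveI := hk.normal
  have hn : (H₀ ⊔ (H ⊓ centralizer (U : Set L))).Normal := h.normal_of_normalized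
    (le_normalizer_of_commutator_mem le_sup_left fun x hx y hy =>
      hk.comm_mem h x hx y ((sup_le hk.lt.le inf_le_left : _ ≤ H) hy))
    (le_normalizer_sup (by rw [normalizer_eq_top]; exact le_top) (h.cent_le_normalizer le_sup_left))
    (le_normalizer_sup (by rw [normalizer_eq_top]; exact le_top) (h.cent_le_normalizer le_sup_right))
  rcases hk.maximal _ hn le_sup_left (sup_le hk.lt.le inf_le_left) with e | e
  · exact sup_eq_left.1 e
  · refine absurd (fun a ha x hx => ?_) hk.moves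
    rw [← e, Subgroup.mem_sup_of_normal_left] at hx
    obtain ⟨x₀, hx₀, c, hc, rfl⟩ := hx
    have hac : a * c = c * a := mem_centralizer_iff.1 hc.2 a ha
    have : ⁅a, x₀ * c⁆ = a * x₀ * a⁻¹ * x₀⁻¹ := by
      calc ⁅a, x₀ * c⁆ = a * x₀ * a⁻¹ * (a * c) * a⁻¹ * c⁻¹ * x₀⁻¹ := by
            simp [commutatorElement_def, mul_assoc]
        _ = a * x₀ * a⁻¹ * x₀⁻¹ := by rw [hac]; group
    rw [this]
    exact mul_mem (hk.normal.conj_mem x₀ hx₀ a) (inv_mem hx₀)

theorem exists_prime (hk : IsChiefKernel H U H₀) (h : Hyp K H U W₁ W₂) :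
    ∃ p : ℕ, p.Prime ∧ p ∣ H₀.relIndex H ∧ ∀ x ∈ H, x ^ p ∈ H₀ := by
  haveI := h.H_normal
  haveI := hk.normal
  have hne : H₀.relIndex H ≠ 1 := fun e => hk.lt.not_ge (relIndex_eq_one.1 e)
  obtain ⟨p, hp, hpd⟩ := Nat.exists_prime_and_dvd hne
  haveI : Fact p.Prime := ⟨hp⟩
  have hcomm : ∀ x ∈ H, ∀ y ∈ H, Commute (QuotientGroup.mk' H₀ x) (QuotientGroup.mk' H₀ y) :=
    fun x hx y hy => by
      rw [← commutatorElement_eq_one_iff_commute, ← map_commutatorElement, QuotientGroup.mk'_apply,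
        QuotientGroup.eq_one_iff]
      exact hk.comm_mem h x hx y hy
  let S : Subgroup L :=
    { carrier := {x | x ∈ H ∧ x ^ p ∈ H₀}
      one_mem' := ⟨H.one_mem, by rw [one_pow]; exact H₀.one_mem⟩
      mul_mem' := fun {a b} ha hb => ⟨H.mul_mem ha.1 hb.1, by
        rw [← QuotientGroup.eq_one_iff, ← QuotientGroup.mk'_apply, map_pow, map_mul,
          (hcomm a ha.1 b hb.1).mul_pow, ← map_pow, ← map_pow]
        simp [(QuotientGroup.eq_one_iff _).2 ha.2, (QuotientGroup.eq_one_iff _).2 hb.2]⟩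
      inv_mem' := fun {a} ha => ⟨H.inv_mem ha.1, by rw [inv_pow]; exact H₀.inv_mem ha.2⟩ }
  have hSn : S.Normal := ⟨fun x hx g => ⟨h.H_normal.conj_mem x hx.1 g, by
    rw [conj_pow]; exact hk.normal.conj_mem _ hx.2 g⟩⟩
  refine ⟨p, hp, hpd, ?_⟩
  rcases hk.maximal S hSn (fun x hx => ⟨hk.lt.le hx, H₀.pow_mem hx p⟩) (fun x hx => hx.1) with
    e | e
  · exfalso
    have hd : p ∣ Nat.card (↥H ⧸ H₀.subgroupOf H) := hpd
    obtain ⟨y, hy⟩ := exists_prime_orderOf_dvd_card' p hd
    obtain ⟨⟨x, hx⟩, rfl⟩ := QuotientGroup.mk_surjective y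
    have hxp : x ^ p ∈ H₀ := by
      have := pow_orderOf_eq_one (QuotientGroup.mk (⟨x, hx⟩ : H) : ↥H ⧸ H₀.subgroupOf H)
      rw [hy, ← QuotientGroup.mk_pow, QuotientGroup.eq_one_iff, mem_subgroupOf] at this
      simpa using this
    have hxS : x ∈ S := ⟨hx, hxp⟩
    rw [e] at hxS
    have h1 : (QuotientGroup.mk (⟨x, hx⟩ : H) : ↥H ⧸ H₀.subgroupOf H) = 1 :=
      (QuotientGroup.eq_one_iff _).2 (mem_subgroupOf.2 hxS)
    rw [h1, orderOf_one] at hy
    exact hp.ne_one hy.symm
  · exact fun x hx => ((e.symm ▸ hx : x ∈ S)).2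

end IsChiefKernel

open Cfsg.Agent.Lib.OddLocal in
/-- The order formula of (9.3) for a normal subgroup inside `H`. -/
theorem Hyp.formula (h : Hyp K H U W₁ W₂) {S : Subgroup L} [S.Normal] (hS : S ≤ H) :
    Nat.card S * Nat.card ↥(S ⊓ centralizer ((U ⊔ W₁ : Subgroup L) : Set L)) ^ Nat.card W₁ =
      Nat.card ↥(S ⊓ centralizer (U : Set L)) * Nat.card ↥(S ⊓ W₂) ^ Nat.card W₁ := by
  haveI hn : (U.subgroupOf (U ⊔ W₁)).Normal :=
    FrobeniusAmbient.normal_subgroupOf_sup h.W₁_normalizes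
  have hKM : U ≤ normalizer (S : Set L) := by rw [normalizer_eq_top]; exact le_top
  have hRM : W₁ ≤ normalizer (S : Set L) := by rw [normalizer_eq_top]; exact le_top
  haveI : Group.IsSolvable H := h.isSolvable_H
  haveI : Group.IsSolvable S := Group.isSolvable_of_isSolvable_injective (inclusion_injective hS)
  have hf := Isometry.FrobeniusFixed.formula
    (FrobeniusAmbient.isComplement'_subgroupOf h.U_inf_W₁ h.W₁_normalizes)
    (FrobeniusAmbient.fpf_subgroupOf h.frobenius) _ S (FrobeniusAmbient.act hKM hRM) rfl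
    inferInstance (h.coprime_UW₁_H.coprime_dvd_right (card_dvd_of_le hS))
  have hc : ∀ A : Subgroup L, A ≤ U ⊔ W₁ →
      Nat.card (FrobeniusAction.fixed (FrobeniusAmbient.act hKM hRM) (A.subgroupOf (U ⊔ W₁))) =
        Nat.card ↥(S ⊓ centralizer (A : Set L)) := fun A hA => by
    rw [← FrobeniusAmbient.map_fixed hKM hRM hA, card_map_of_injective S.subtype_injective]
  have hq : Nat.card (W₁.subgroupOf (U ⊔ W₁)) = Nat.card W₁ :=
    Nat.card_congr (subgroupOfEquivOfLe (le_sup_right : W₁ ≤ U ⊔ W₁)).toEquiv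
  have e1 := hc (U ⊔ W₁) le_rfl
  rw [subgroupOf_self] at e1
  have hW : S ⊓ centralizer (W₁ : Set L) = S ⊓ W₂ := by
    rw [← h.centralizer_W₁, ← inf_assoc, inf_eq_left.2 hS]
  rw [hc W₁ le_sup_right, hc U le_sup_left, e1, hq, hW] at hf
  rw [mul_comm, hf, mul_comm]

theorem inf_cent_eq {S : Subgroup L} {A : Set L} (hS : S ≤ H) (hA : H ⊓ centralizer A ≤ S) :
    S ⊓ centralizer A = H ⊓ centralizer A :=
  le_antisymm (inf_le_inf_right _ hS) (le_inf hA inf_le_right)

theorem IsChiefKernel.relIndex_eq (hk : IsChiefKernel H U H₀) (h : Hyp K H U W₁ W₂) :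
    H₀.relIndex H = H₀.relIndex W₂ ^ Nat.card W₁ := by
  haveI := hk.normal
  haveI := h.H_normal
  have hH := h.formula (S := H) le_rfl
  have hS := h.formula (S := H₀) hk.lt.le
  have hU := hk.centU_le h
  have hUW : H ⊓ centralizer ((U ⊔ W₁ : Subgroup L) : Set L) ≤ H₀ :=
    (inf_le_inf_left H (centralizer_le (SetLike.coe_subset_coe.2 le_sup_left))).trans hU
  rw [inf_eq_right.2 h.W₂_le] at hH
  rw [inf_cent_eq hk.lt.le hUW, inf_cent_eq hk.lt.le hU] at hS
  have hcardH : Nat.card H = Nat.card H₀ * H₀.relIndex H := by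
    rw [← relIndex_bot_left, ← relIndex_bot_left (H := H₀), mul_comm]
    exact (relIndex_mul_relIndex ⊥ H₀ H bot_le hk.lt.le).symm.trans (mul_comm _ _)
  have hcardW : Nat.card W₂ = Nat.card ↥(H₀ ⊓ W₂) * H₀.relIndex W₂ := by
    rw [← relIndex_bot_left, ← relIndex_bot_left (H := H₀ ⊓ W₂), ← inf_relIndex_right H₀ W₂]
    exact (relIndex_mul_relIndex ⊥ (H₀ ⊓ W₂) W₂ bot_le inf_le_right).symm
  rw [hcardH, hcardW, mul_pow] at hH
  refine Nat.eq_of_mul_eq_mul_left
    (Nat.mul_pos Nat.card_pos (pow_pos Nat.card_pos (Nat.card W₁)) :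
      0 < Nat.card ↥(H ⊓ centralizer (U : Set L)) * Nat.card ↥(H₀ ⊓ W₂) ^ Nat.card W₁) ?_
  rw [← hS]
  calc Nat.card H₀ * Nat.card ↥(H ⊓ centralizer ((U ⊔ W₁ : Subgroup L) : Set L)) ^ Nat.card W₁ *
        H₀.relIndex H = Nat.card H₀ * H₀.relIndex H *
        Nat.card ↥(H ⊓ centralizer ((U ⊔ W₁ : Subgroup L) : Set L)) ^ Nat.card W₁ := by ring
    _ = _ := by rw [hH, hS, mul_assoc]

theorem IsChiefKernel.relIndex_W₂ (hk : IsChiefKernel H U H₀) (h : Hyp K H U W₁ W₂) {p : ℕ}
    (hp : p.Prime) (hpow : ∀ x ∈ H, x ^ p ∈ H₀) : H₀.relIndex W₂ = p := by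
  haveI := hk.normal
  haveI := h.W₂_cyclic
  obtain ⟨g, hg⟩ := IsCyclic.exists_generator (α := W₂)
  have hgen : ∀ y : ↥W₂ ⧸ H₀.subgroupOf W₂, y ∈ Subgroup.zpowers (QuotientGroup.mk g) := fun y => by
    obtain ⟨x, rfl⟩ := QuotientGroup.mk_surjective y
    obtain ⟨n, hn⟩ := mem_zpowers_iff.1 (hg x)
    exact mem_zpowers_iff.2 ⟨n, by rw [← QuotientGroup.mk_zpow, hn]⟩
  have hcard : H₀.relIndex W₂ = orderOf (QuotientGroup.mk g : ↥W₂ ⧸ H₀.subgroupOf W₂) :=
    (orderOf_eq_card_of_forall_mem_zpowers hgen).symm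
  have hdvd : H₀.relIndex W₂ ∣ p := by
    rw [hcard]
    refine orderOf_dvd_of_pow_eq_one ?_
    rw [← QuotientGroup.mk_pow, QuotientGroup.eq_one_iff, mem_subgroupOf, SubmonoidClass.coe_pow]
    exact hpow _ (h.W₂_le g.2)
  refine (hp.eq_one_or_self_of_dvd _ hdvd).resolve_left fun e => ?_
  have := hk.relIndex_eq h
  rw [e, one_pow] at this
  exact hk.lt.not_ge (relIndex_eq_one.1 this)

theorem zpowers_eq_W₁ (h : Hyp K H U W₁ W₂) {w : L} (hw : w ∈ W₁) (hw1 : w ≠ 1) :
    Subgroup.zpowers w = W₁ := by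
  refine eq_of_le_of_card_ge (zpowers_le.2 hw) (le_of_eq ?_)
  rcases h.W₁_prime.eq_one_or_self_of_dvd _ (card_dvd_of_le (zpowers_le.2 hw)) with e | e
  · exact absurd (zpowers_eq_bot.1 (card_eq_one.1 e)) hw1
  · exact e.symm

/-- (9.6). -/
theorem step_9_6 (h : Hyp K H U W₁ W₂) (hk : IsChiefKernel H U H₀) :
    ∃ (p : ℕ) (C : Subgroup L), IsFactorCentralizer H U H₀ C ∧ (H₀ ⊔ C).Normal ∧
      (H₀ ⊔ ⁅C, C⁆).Normal ∧ Step_9_6 p H U W₁ W₂ H₀ C ∧
      ((Nat.card W₂).Prime → p = Nat.card W₂) := by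
  haveI := hk.normal
  haveI := h.H_normal
  obtain ⟨p, hp, -, hpow⟩ := hk.exists_prime h
  have hW := hk.relIndex_W₂ h hp hpow
  refine ⟨p, factorCent H U H₀, isFactorCentralizer_factorCent, ?_⟩
  set C := factorCent H U H₀ with hCdef
  have hmem : ∀ x, x ∈ C ↔ x ∈ U ∧ ∀ y ∈ H, ⁅x, y⁆ ∈ H₀ := isFactorCentralizer_factorCent
  have hCU : C ≤ U := inf_le_left
  have hCn : U ⊔ W₁ ≤ normalizer (C : Set L) := by
    refine le_normalizer_inf (sup_le le_normalizer h.W₁_normalizes) ?_
    haveI : (H.map (QuotientGroup.mk' H₀)).Normal :=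
      h.H_normal.map _ (QuotientGroup.mk'_surjective H₀)
    rw [normalizer_eq_top]
    exact le_top
  have hCH : ∀ x ∈ H, ∀ c ∈ C, ⁅x, c⁆ ∈ H₀ := fun x hx c hc => by
    rw [← commutatorElement_inv]
    exact inv_mem (((hmem c).1 hc).2 x hx)
  have hnorm : ∀ T : Subgroup L, T ≤ C → U ⊔ W₁ ≤ normalizer (T : Set L) → (H₀ ⊔ T).Normal := by
    intro T hT hTn
    refine h.normal_of_normalized (le_normalizer_of_commutator_mem le_sup_left fun x hx y hy => ?_)
      (le_normalizer_sup (by rw [normalizer_eq_top]; exact le_top) (le_sup_left.trans hTn))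
      (le_normalizer_sup (by rw [normalizer_eq_top]; exact le_top) (le_sup_right.trans hTn))
    rw [Subgroup.mem_sup_of_normal_left] at hy
    obtain ⟨a, ha, c, hc, rfl⟩ := hy
    rw [← QuotientGroup.eq_one_iff, ← QuotientGroup.mk'_apply, map_commutatorElement, map_mul]
    have h1 : QuotientGroup.mk' H₀ a = 1 := (QuotientGroup.eq_one_iff a).2 ha
    rw [h1, one_mul, ← map_commutatorElement, QuotientGroup.mk'_apply, QuotientGroup.eq_one_iff]
    exact hCH x hx c (hT hc)
  refine ⟨hnorm C le_rfl hCn, hnorm _ (commutator_le_self C) ?_, ?_, fun h2 => ?_⟩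
  · refine le_normalizer_iff.mpr fun x hx y hy => ?_
    have hmap : C.map (MulAut.conj x).toMonoidHom = C := by
      ext z
      rw [Subgroup.mem_map]
      constructor
      · rintro ⟨c, hc, rfl⟩
        exact (mem_normalizer_iff.1 (hCn hx) c).1 hc
      · intro hz
        exact ⟨x⁻¹ * z * x, by simpa using (mem_normalizer_iff''.1 (hCn hx) z).1 hz,
          by simp [mul_assoc]⟩
    have := mem_map_of_mem (MulAut.conj x).toMonoidHom hy
    rw [map_commutator, hmap] at this
    simpa using this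
  · refine
      { prime := hp
        index_eq := by rw [hk.relIndex_eq h, hW]
        pow_mem := hpow
        comm_mem := hk.comm_mem h
        W₂_image := by rw [relIndex_sup_right]; exact hW
        centU_le := hk.centU_le h
        C_lt := ?_
        derived_le := fun x hx => (hmem x).2 ⟨commutator_le_self U hx, fun y hy => ?_⟩
        C_normalized := hCn
        fpf := ?_ }
    · refine lt_of_le_of_ne hCU fun e => hk.moves fun a ha x hx => ((hmem a).1 (e.symm ▸ ha)).2 x hx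
    · rw [commutatorElement_eq_one_iff_mul_comm.2
        (mem_centralizer_iff.1 (h.U_derived hx) y hy).symm]
      exact H₀.one_mem
    · intro w hw hw1 a ha hc
      have hW1 := zpowers_eq_W₁ h hw hw1
      have hbase : a⁻¹ * (w * a * w⁻¹) ∈ C := by
        have := (mem_normalizer_iff''.1 (hCn (mem_sup_left ha)) _).1 hc
        simpa [commutatorElement_def, mul_assoc] using this
      have hpowmem : ∀ n : ℕ, a⁻¹ * (w ^ n * a * (w ^ n)⁻¹) ∈ C := by
        intro n
        induction n with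
        | zero => simp
        | succ n ih =>
          have e : a⁻¹ * (w ^ (n + 1) * a * (w ^ (n + 1))⁻¹) =
              a⁻¹ * (w * a * w⁻¹) * (w * (a⁻¹ * (w ^ n * a * (w ^ n)⁻¹)) * w⁻¹) := by
            rw [pow_succ']; group
          rw [e]
          exact mul_mem hbase ((mem_normalizer_iff.1 (hCn (mem_sup_right hw)) _).1 ih)
      obtain ⟨n, hn, hfix⟩ := exists_mul_fixed (A := W₁) (N := C) (k := a)
        (le_sup_right.trans hCn) (h.W₁_coprime_U.coprime_dvd_right (card_dvd_of_le hCU))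
        (Or.inl (hW1 ▸ isSolvable_zpowers w)) fun v hv => by
          rw [← hW1, ← mem_powers_iff_mem_zpowers] at hv
          obtain ⟨k, rfl⟩ := hv
          exact hpowmem k
      have : a * n = 1 :=
        h.fpf_U hw hw1 (mul_mem ha (hCU hn)) (mem_centralizer_iff.1 hfix w hw)
      rw [eq_inv_of_mul_eq_one_left this]
      exact inv_mem hn
  · refine (h2.eq_one_or_self_of_dvd _ ?_).resolve_left hp.ne_one
    rw [← hW]
    exact (index_dvd_card _ : (H₀.subgroupOf W₂).index ∣ Nat.card W₂)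

end Cfsg.Agent.Lib.OddOrder.PF9
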