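import Cfsg.Agent.Lib.OddOrder.PF9.Chief

/-!
# Peterfalvi (9.7), the Galois case: `H/H₀` as a field of order `p ^ q`
-/

set_option autoImplicit false
set_option linter.unusedSectionVars false
set_option linter.style.haveILetI false

namespace Cfsg.Agent.Lib.OddOrder.PF9

open Subgroup
open scoped commutatorElement IsMulCommutative

universe u

/-- Schur's lemma: an irreducible abelian action on an abelian group makes it a field. -/
theorem field_core {G : Type u} [Group G] [Finite G] (V : Subgroup G) [V.Normal]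
    [IsMulCommutative V] (S : Subgroup G)
    (hirr : ∀ N : Subgroup G, N ≤ V → S ≤ normalizer (N : Set G) → N = ⊥ ∨ N = V)
    (hcomm : ∀ a ∈ S, ∀ b ∈ S, ∀ v ∈ V, (a * b) * v * (a * b)⁻¹ = (b * a) * v * (b * a)⁻¹)
    (v₀ : V) (hv₀ : v₀ ≠ 1) :
    ∃ (F : Type u) (_ : Field F) (_ : Finite F) (e : F ≃+ Additive V) (ψ : S →* F),
      e 1 = Additive.ofMul v₀ ∧ ∀ (a : S) (z : F),
        ((Additive.toMul (e (ψ a * z)) : V) : G) =
          (a : G) * ((Additive.toMul (e z) : V) : G) * (a : G)⁻¹ := by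
  classical
  let ρ : S →* AddMonoid.End (Additive V) :=
    { toFun := fun a => MonoidHom.toAdditive (MulAut.conjNormal (a : G)).toMonoidHom
      map_one' := DFunLike.ext _ _ fun v => Additive.toMul.injective (Subtype.ext
        ((MulAut.conjNormal_apply ((1 : S) : G) (Additive.toMul v)).trans (by simp)))
      map_mul' := fun a b => DFunLike.ext _ _ fun v => Additive.toMul.injective (Subtype.ext (by
        show ((MulAut.conjNormal ((a * b : S) : G) (Additive.toMul v) : V) : G) =
          ((MulAut.conjNormal (a : G) (MulAut.conjNormal (b : G) (Additive.toMul v)) : V) : G)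
        simp [mul_assoc])) }
  have hρ : ∀ (a : S) (v : Additive V),
      ((Additive.toMul (ρ a v) : V) : G) = (a : G) * ((Additive.toMul v : V) : G) * (a : G)⁻¹ :=
    fun a v => MulAut.conjNormal_apply _ _
  have hc : ∀ x ∈ Set.range ρ, ∀ y ∈ Set.range ρ, x * y = y * x := by
    rintro _ ⟨a, rfl⟩ _ ⟨b, rfl⟩
    ext v
    rw [← map_mul, ← map_mul, hρ, hρ]
    exact hcomm a a.2 b b.2 _ (Additive.toMul v).2
  haveI := Subring.isMulCommutative_closure hc
  set A := Subring.closure (Set.range ρ) with hA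
  have hgen : ∀ a : S, ρ a ∈ A := fun a => Subring.subset_closure ⟨a, rfl⟩
  haveI : Finite (AddMonoid.End (Additive V)) :=
    Finite.of_injective (fun f => (f : Additive V → Additive V)) DFunLike.coe_injective
  -- stable subgroups
  have hsub : ∀ (T : AddSubgroup (Additive V)), (∀ a : S, ∀ v ∈ T, ρ a v ∈ T) → T = ⊥ ∨ T = ⊤ := by
    intro T hT
    set N : Subgroup G := (AddSubgroup.toSubgroup' T).map V.subtype with hN
    have hmem : ∀ v : Additive V, v ∈ T ↔ ((Additive.toMul v : V) : G) ∈ N := fun v => by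
      rw [hN, mem_map]
      exact ⟨fun hv => ⟨Additive.toMul v, hv, rfl⟩,
        fun ⟨w, hw, e⟩ => by obtain rfl : w = Additive.toMul v := Subtype.ext e; exact hw⟩
    have hNS : S ≤ normalizer (N : Set G) := le_normalizer_iff.mpr fun a ha x hx => by
      rw [hN, mem_map] at hx
      obtain ⟨w, hw, rfl⟩ := hx
      have := (hmem _).1 (hT ⟨a, ha⟩ (Additive.ofMul w) hw)
      rwa [hρ] at this
    rcases hirr N (map_subtype_le _) hNS with e | e
    · left
      rw [AddSubgroup.eq_bot_iff_forall]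
      intro v hv
      have := (hmem v).1 hv
      rw [e, mem_bot] at this
      exact Additive.toMul.injective (Subtype.ext this)
    · right
      rw [AddSubgroup.eq_top_iff']
      intro v
      exact (hmem v).2 (by rw [e]; exact (Additive.toMul v).2)
  have hker : ∀ x : A, x ≠ 0 → ∀ v, (x : AddMonoid.End (Additive V)) v = 0 → v = 0 := by
    intro x hx v hv
    have hinv : ∀ a : S, ∀ w ∈ AddMonoidHom.ker (x : Additive V →+ Additive V),
        ρ a w ∈ AddMonoidHom.ker (x : Additive V →+ Additive V) := fun a w hw => by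
      show (x : AddMonoid.End (Additive V)) (ρ a w) = 0
      have hc' : (x : AddMonoid.End (Additive V)) * ρ a = ρ a * x :=
        congrArg Subtype.val (mul_comm x ⟨ρ a, hgen a⟩)
      have hw' : (x : AddMonoid.End (Additive V)) w = 0 := hw
      have := DFunLike.congr_fun hc' w
      exact this.trans ((congrArg (ρ a) hw').trans (map_zero (ρ a)))
    rcases hsub _ hinv with e | e
    · have : v ∈ AddMonoidHom.ker (x : Additive V →+ Additive V) := hv
      rwa [e, AddSubgroup.mem_bot] at this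
    · refine absurd (Subtype.ext (AddMonoidHom.ext fun w => ?_)) hx
      have : w ∈ AddMonoidHom.ker (x : Additive V →+ Additive V) := e ▸ AddSubgroup.mem_top w
      exact this
  set w₀ := Additive.ofMul v₀ with hw₀
  have hw₀0 : w₀ ≠ 0 := fun e => hv₀ (Additive.ofMul.injective e)
  let ev : A →+ Additive V :=
    { toFun := fun x => (x : AddMonoid.End (Additive V)) w₀
      map_zero' := rfl
      map_add' := fun _ _ => rfl }
  have hev : Function.Injective ev := (injective_iff_map_eq_zero ev).2 fun x hx => by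
    by_contra hne
    exact hw₀0 (hker x hne w₀ hx)
  haveI : Nontrivial A := ⟨⟨0, 1, fun e => hw₀0 (congrArg ev e).symm⟩⟩
  haveI : NoZeroDivisors A := ⟨fun {x y} hxy => by
    by_contra hne
    push Not at hne
    have h1 : (x : AddMonoid.End (Additive V)) ((y : AddMonoid.End (Additive V)) w₀) = 0 :=
      congrArg ev hxy
    exact hne.2 (hev (by rw [map_zero]; exact hker x hne.1 _ h1))⟩
  haveI : IsDomain A := NoZeroDivisors.to_isDomain A
  letI : Field A := (Finite.isDomain_to_isField A).toField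
  have hsurj : Function.Surjective ev := by
    have hinv : ∀ a : S, ∀ v ∈ ev.range, ρ a v ∈ ev.range := by
      rintro a v ⟨x, rfl⟩
      exact ⟨⟨ρ a, hgen a⟩ * x, rfl⟩
    rcases hsub ev.range hinv with e | e
    · exfalso
      have : ev 1 ∈ ev.range := ⟨1, rfl⟩
      rw [e, AddSubgroup.mem_bot] at this
      exact hw₀0 this
    · exact AddMonoidHom.range_eq_top.1 e
  refine ⟨A, inferInstance, inferInstance, AddEquiv.ofBijective ev ⟨hev, hsurj⟩,
    { toFun := fun a => ⟨ρ a, hgen a⟩
      map_one' := Subtype.ext (map_one ρ)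
      map_mul' := fun a b => Subtype.ext (map_mul ρ a b) }, rfl, fun a z => ?_⟩
  exact hρ a _

variable {L : Type u} [Group L] [Finite L] {K H U W₁ W₂ H₀ C : Subgroup L} {p : ℕ}

/-- (9.7): the field in the Galois case. -/
theorem step_9_7_field (h : Hyp K H U W₁ W₂) (hk : IsChiefKernel H U H₀)
    (h6 : Step_9_6 p H U W₁ W₂ H₀ C) (hC : IsFactorCentralizer H U H₀ C) :
    Step_9_7_field p H U W₁ W₂ H₀ C := by
  intro hG
  classical
  haveI := hk.normal
  haveI := h.H_normal
  haveI : Fact p.Prime := ⟨h6.prime⟩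
  set π := QuotientGroup.mk' H₀ with hπ
  set V := H.map π with hV
  haveI : V.Normal := h.H_normal.map π (QuotientGroup.mk'_surjective H₀)
  have hπ1 : ∀ x : L, π x = 1 ↔ x ∈ H₀ := fun x => QuotientGroup.eq_one_iff x
  haveI : IsMulCommutative V := .of_setLike_mul_comm fun x hx y hy => by
    obtain ⟨a, ha, rfl⟩ := hx
    obtain ⟨b, hb, rfl⟩ := hy
    rw [← commutatorElement_eq_one_iff_mul_comm, ← map_commutatorElement, hπ1]
    exact h6.comm_mem a ha b hb
  have hcomap : ∀ N : Subgroup (L ⧸ H₀), N ≤ V → H₀ ≤ N.comap π ∧ N.comap π ≤ H := fun N hN =>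
    ⟨fun x hx => by rw [mem_comap, (hπ1 x).2 hx]; exact N.one_mem,
     fun x hx => by
      obtain ⟨y, hy, e⟩ := hN hx
      have : y⁻¹ * x ∈ H₀ := (hπ1 _).1 (by rw [map_mul, map_inv, e, inv_mul_cancel])
      simpa using mul_mem hy (hk.lt.le this)⟩
  have hirr : ∀ N : Subgroup (L ⧸ H₀), N ≤ V → U.map π ≤ normalizer (N : Set (L ⧸ H₀)) →
      N = ⊥ ∨ N = V := by
    intro N hN hNU
    have hN' : N = (N.comap π).map π :=
      (map_comap_eq_self_of_surjective (QuotientGroup.mk'_surjective H₀) N).symm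
    obtain ⟨h1, h2⟩ := hcomap N hN
    rcases hG (N.comap π) h1 h2 (le_normalizer_iff.mpr fun a ha x hx => by
        rw [mem_comap] at hx ⊢
        rw [map_mul, map_mul, map_inv]
        exact (mem_normalizer_iff.1 (hNU (mem_map_of_mem π ha)) _).1 hx) with e | e
    · left
      rw [hN', e, eq_bot_iff]
      rintro _ ⟨x, hx, rfl⟩
      exact Subgroup.mem_bot.2 ((hπ1 x).2 hx)
    · right; rw [hN', e]
  have hcomm : ∀ a ∈ U.map π, ∀ b ∈ U.map π, ∀ v ∈ V,
      (a * b) * v * (a * b)⁻¹ = (b * a) * v * (b * a)⁻¹ := by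
    rintro _ ⟨a, ha, rfl⟩ _ ⟨b, hb, rfl⟩ _ ⟨x, hx, rfl⟩
    have hc := ((hC _).1 (h6.derived_le (commutator_mem_commutator ha hb))).2 _
      (h.H_normal.conj_mem x hx (b * a))
    rw [← hπ1, map_commutatorElement, commutatorElement_eq_one_iff_mul_comm] at hc
    simp only [← map_mul, ← map_inv]
    have e : a * b * x * (a * b)⁻¹ = ⁅a, b⁆ * (b * a * x * (b * a)⁻¹) * ⁅a, b⁆⁻¹ := by
      simp only [commutatorElement_def]; group
    rw [e, map_mul, map_mul, map_inv, hc, mul_inv_cancel_right]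
  -- a nontrivial point of the image of `W₂`
  obtain ⟨w₂, hw₂, hw₂0⟩ : ∃ x ∈ W₂, x ∉ H₀ := by
    by_contra hne
    push Not at hne
    have := hk.relIndex_W₂ h h6.prime h6.pow_mem
    rw [relIndex_eq_one.2 hne] at this
    exact h6.prime.one_lt.ne this
  obtain ⟨F, _, _, e, ψ, he1, heψ⟩ := field_core V (U.map π) hirr hcomm
    ⟨π w₂, mem_map_of_mem π (h.W₂_le hw₂)⟩ (fun e => hw₂0 ((hπ1 _).1 (congrArg Subtype.val e)))
  -- the cardinality
  have hcardV : Nat.card V = p ^ Nat.card W₁ := by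
    rw [← h6.index_eq]
    refine (relIndex_ker (K := H) π).symm.trans ?_
    rw [hπ, QuotientGroup.ker_mk']
  have hcardF : Nat.card F = p ^ Nat.card W₁ :=
    (Nat.card_congr (e.toEquiv.trans Additive.toMul)).trans hcardV
  letI := Fintype.ofFinite F
  letI := Fintype.ofFinite (GaloisField p (Nat.card W₁))
  have hq0 : Nat.card W₁ ≠ 0 := h.W₁_prime.ne_zero
  let σ : F ≃+* GaloisField p (Nat.card W₁) := FiniteField.ringEquivOfCardEq (by
    rw [← Nat.card_eq_fintype_card, ← Nat.card_eq_fintype_card, hcardF, GaloisField.card p _ hq0])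
  -- the two maps
  let f : L → GaloisField p (Nat.card W₁) := fun x =>
    if hx : x ∈ H then σ (e.symm (Additive.ofMul ⟨π x, mem_map_of_mem π hx⟩)) else 0
  let χ : L → GaloisField p (Nat.card W₁) := fun a =>
    if ha : a ∈ U then σ (ψ ⟨π a, mem_map_of_mem π ha⟩) else 0
  have hf : ∀ x (hx : x ∈ H), f x = σ (e.symm (Additive.ofMul ⟨π x, mem_map_of_mem π hx⟩)) :=
    fun x hx => dif_pos hx
  have hχ : ∀ a (ha : a ∈ U), χ a = σ (ψ ⟨π a, mem_map_of_mem π ha⟩) := fun a ha => dif_pos ha
  have hadd : ∀ x ∈ H, ∀ y ∈ H, f (x * y) = f x + f y := fun x hx y hy => by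
    rw [hf x hx, hf y hy, hf _ (H.mul_mem hx hy), ← map_add, ← map_add, ← ofMul_mul]
    exact congrArg (fun v => σ (e.symm (Additive.ofMul v))) (Subtype.ext (map_mul π x y))
  have hsurj : ∀ z, ∃ x ∈ H, f x = z := fun z => by
    obtain ⟨x, hx, hxz⟩ := (Additive.toMul (e (σ.symm z))).2
    refine ⟨x, hx, ?_⟩
    rw [hf x hx]
    have : (⟨π x, mem_map_of_mem π hx⟩ : V) = Additive.toMul (e (σ.symm z)) := Subtype.ext hxz
    rw [this, ofMul_toMul, AddEquiv.symm_apply_apply, RingEquiv.apply_symm_apply]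
  have hzero : ∀ x ∈ H, (f x = 0 ↔ x ∈ H₀) := fun x hx => by
    rw [hf x hx, map_eq_zero_iff σ σ.injective, map_eq_zero_iff e.symm e.symm.injective,
      ofMul_eq_zero, ← hπ1, Subtype.ext_iff]
    rfl
  have hmul : ∀ a ∈ U, ∀ x ∈ H, f (a * x * a⁻¹) = χ a * f x := fun a ha x hx => by
    rw [hf _ (h.H_normal.conj_mem x hx a), hf x hx, hχ a ha, ← map_mul]
    refine congrArg σ (e.injective ?_)
    rw [AddEquiv.apply_symm_apply]
    refine Additive.toMul.injective (Subtype.ext ?_)
    rw [heψ, AddEquiv.apply_symm_apply]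
    simp [toMul_ofMul]
  have hone : ∀ a ∈ U, (χ a = 1 ↔ a ∈ C) := fun a ha => by
    constructor
    · intro h1
      refine (hC a).2 ⟨ha, fun x hx => ?_⟩
      have := hmul a ha x hx
      rw [h1, one_mul] at this
      have hax := h.H_normal.conj_mem x hx a
      have h2 : f (a * x * a⁻¹ * x⁻¹) + f x = f (a * x * a⁻¹) := by
        rw [← hadd _ (H.mul_mem hax (H.inv_mem hx)) _ hx, inv_mul_cancel_right]
      rw [this, add_eq_right] at h2
      exact (hzero _ (H.mul_mem hax (H.inv_mem hx))).1 h2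
    · intro ha'
      obtain ⟨x, hx, hx1⟩ := hsurj 1
      have hax := h.H_normal.conj_mem x hx a
      have h2 : f (a * x * a⁻¹ * x⁻¹) + f x = f (a * x * a⁻¹) := by
        rw [← hadd _ (H.mul_mem hax (H.inv_mem hx)) _ hx, inv_mul_cancel_right]
      have h3 := (hzero _ (H.mul_mem hax (H.inv_mem hx))).2 (((hC a).1 ha').2 x hx)
      rw [h3, zero_add, hmul a ha x hx, hx1, mul_one] at h2
      exact h2.symm
  refine ⟨GaloisField p (Nat.card W₁), inferInstance, Fintype.ofFinite _, f, χ, ?_, hadd, hsurj,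
    hzero, fun a ha => ⟨fun h0 => ?_, hmul a ha⟩, fun a ha b hb => ?_, hone, fun x hx => ?_⟩
  · rw [← Nat.card_eq_fintype_card, GaloisField.card p _ hq0]
  · obtain ⟨x, hx, hx1⟩ := hsurj 1
    have hax := hmul a ha x hx
    rw [h0, zero_mul, hzero _ (h.H_normal.conj_mem x hx a)] at hax
    have := hk.normal.conj_mem _ hax a⁻¹
    simp only [inv_inv, mul_assoc, inv_mul_cancel_left, inv_mul_cancel, mul_one] at this
    rw [(hzero x hx).2 this] at hx1
    exact zero_ne_one hx1
  · rw [hχ a ha, hχ b hb, hχ _ (U.mul_mem ha hb), ← map_mul, ← map_mul]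
    exact congrArg (fun v => σ (ψ v)) (Subtype.ext (map_mul π a b))
  · -- the prime field is the image of `W₂`
    have hfw : f w₂ = 1 := by
      rw [hf _ (h.W₂_le hw₂), ← he1, AddEquiv.symm_apply_apply, map_one]
    have hfpow : ∀ n : ℕ, f (w₂ ^ n) = (n : GaloisField p (Nat.card W₁)) := by
      intro n
      induction n with
      | zero => rw [pow_zero, Nat.cast_zero]; exact (hzero 1 H.one_mem).2 H₀.one_mem
      | succ n ih => rw [pow_succ, hadd _ (H.pow_mem (h.W₂_le hw₂) n) _ (h.W₂_le hw₂), ih, hfw,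
          Nat.cast_succ]
    rw [← Subfield.mem_bot_iff_pow_eq_self (GaloisField p (Nat.card W₁)) p, mem_bot_iff_intCast p (GaloisField p (Nat.card W₁))]
    constructor
    · rintro ⟨n, hn⟩
      obtain ⟨m, hm⟩ : ∃ m : ℕ, (n : GaloisField p (Nat.card W₁)) = (m : GaloisField p (Nat.card W₁)) := by
        refine ⟨(n % p).toNat, ?_⟩
        have hp0 : (p : ℤ) ≠ 0 := Nat.cast_ne_zero.2 h6.prime.ne_zero
        rw [← Int.cast_natCast (R := GaloisField p (Nat.card W₁)) ((n % p).toNat),
          Int.toNat_of_nonneg (Int.emod_nonneg _ hp0),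
          CharP.intCast_eq_intCast (GaloisField p (Nat.card W₁)) p]
        exact (Int.emod_emod_of_dvd n dvd_rfl).symm
      rw [hm, ← hfpow] at hn
      have hwm := H.pow_mem (h.W₂_le hw₂) m
      have h2 : f (x * (w₂ ^ m)⁻¹) + f (w₂ ^ m) = f x := by
        rw [← hadd _ (H.mul_mem hx (H.inv_mem hwm)) _ hwm, inv_mul_cancel_right]
      rw [hn, add_eq_right] at h2
      have hx' : x = (x * (w₂ ^ m)⁻¹) * w₂ ^ m := by group
      rw [hx']
      exact mul_mem (mem_sup_right ((hzero _ (H.mul_mem hx (H.inv_mem hwm))).1 h2))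
        (mem_sup_left (W₂.pow_mem hw₂ m))
    · intro hxm
      have hW : W₂ ⊔ H₀ = Subgroup.zpowers w₂ ⊔ H₀ := by
        refine le_antisymm ?_ (sup_le_sup_right (zpowers_le.2 hw₂) H₀)
        have h1 := relIndex_mul_relIndex H₀ (Subgroup.zpowers w₂ ⊔ H₀) (W₂ ⊔ H₀) le_sup_right
          (sup_le_sup_right (zpowers_le.2 hw₂) H₀)
        rw [h6.W₂_image] at h1
        rcases h6.prime.eq_one_or_self_of_dvd _ (Dvd.intro _ h1) with e | e
        · exact absurd ((relIndex_eq_one.1 e) (mem_sup_left (mem_zpowers w₂))) hw₂0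
        · rw [e] at h1
          exact relIndex_eq_one.1 (Nat.eq_of_mul_eq_mul_left h6.prime.pos (by rw [h1, mul_one]))
      rw [hW, sup_comm, Subgroup.mem_sup_of_normal_left] at hxm
      obtain ⟨y, hy, z, hz, rfl⟩ := hxm
      rw [← mem_powers_iff_mem_zpowers] at hz
      obtain ⟨n, rfl⟩ := hz
      refine ⟨(n : ℤ), ?_⟩
      rw [hadd _ (hk.lt.le hy) _ (H.pow_mem (h.W₂_le hw₂) n), (hzero _ (hk.lt.le hy)).2 hy,
        hfpow, zero_add, Int.cast_natCast]

end Cfsg.Agent.Lib.OddOrder.PF9
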